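import Mathlib.RingTheory.Etale.Kaehler
import Mathlib.RingTheory.Kaehler.Polynomial
import Mathlib.RingTheory.Smooth.Flat
import Mathlib.RingTheory.RingHom.Etale
import Mathlib.RingTheory.Regular.Flat

/-!
# Ring-level facts on coordinate differentials
-/

set_option autoImplicit false
set_option linter.style.haveILetI false
universe u v

open TensorProduct

namespace Groth.L09.LogNCD

theorem basis_of_etale {R B : Type u} [CommRing R] [CommRing B] [Algebra R B] {σ : Type u}
    (φ : MvPolynomial σ R →+* B) (hφ : φ.comp MvPolynomial.C = algebraMap R B) (h : φ.Etale) :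
    (∃ b : Module.Basis σ B Ω[B⁄R], ∀ j, b j = KaehlerDifferential.D R B (φ (MvPolynomial.X j))) ∧
      ∀ j, IsRegular (φ (MvPolynomial.X j)) := by
  letI := φ.toAlgebra
  haveI : IsScalarTower R (MvPolynomial σ R) B :=
    IsScalarTower.of_algebraMap_eq fun c => (DFunLike.congr_fun hφ c).symm
  haveI : Algebra.Etale (MvPolynomial σ R) B := h
  refine ⟨⟨((KaehlerDifferential.mvPolynomialBasis R σ).baseChange B).map
    (KaehlerDifferential.tensorKaehlerEquivOfFormallyEtale R (MvPolynomial σ R) B), fun j => ?_⟩, fun j => ?_⟩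
  · rw [Module.Basis.map_apply, Module.Basis.baseChange_apply, KaehlerDifferential.mvPolynomialBasis_apply,
      KaehlerDifferential.tensorKaehlerEquivOfFormallyEtale_apply, KaehlerDifferential.mapBaseChange_tmul, one_smul,
      KaehlerDifferential.map_D]
    rfl
  · haveI : Module.Flat (MvPolynomial σ R) B := inferInstance
    have hX : IsSMulRegular (MvPolynomial σ R) (MvPolynomial.X j : MvPolynomial σ R) :=
      (MvPolynomial.isRegular_X (n := j) (R := R)).left.isSMulRegular
    have hB : IsSMulRegular B (φ (MvPolynomial.X j)) := IsSMulRegular.of_flat hX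
    exact (Commute.isRegular_iff (Commute.all _)).2 (isLeftRegular_iff.2 hB)

/-- The coefficient of an equation in a relation between logarithmic differentials. -/
theorem mem_span_of_rel {B M : Type*} [CommRing B] [AddCommGroup M] [Module B M] {r : ℕ} {g : Fin r → B}
    {w : Fin r → M} (hreg : ∀ i, IsRegular (g i))
    (hψ : ∀ i, IsUnit (g i) ∨ ∃ ψ : M →ₗ[B] B, ψ (w i) = 1 ∧ ∀ j, j ≠ i → ψ (w j) = 0)
    {c : Fin r → B} {m : M}
    (h : ∑ i, (c i * ∏ j ∈ Finset.univ.erase i, g j) • w i = (∏ j, g j) • m) (i : Fin r) :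
    c i ∈ Ideal.span {g i} := by
  rcases hψ i with hu | ⟨ψ, h1, h0⟩
  · rw [Ideal.span_singleton_eq_top.2 hu]; trivial
  · have h' := congrArg ψ h
    rw [map_sum, Finset.sum_eq_single i (fun j _ hj => by rw [map_smul, h0 j hj, smul_zero])
      (fun hi => absurd (Finset.mem_univ i) hi), map_smul, map_smul, h1, smul_eq_mul, mul_one, smul_eq_mul,
      ← Finset.mul_prod_erase _ g (Finset.mem_univ i)] at h'
    have hP : IsRegular (∏ j ∈ Finset.univ.erase i, g j) := IsRegular.prod fun j _ => hreg j
    refine Ideal.mem_span_singleton.2 ⟨ψ m, hP.left ?_⟩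
    dsimp only
    rw [mul_comm, h']
    ring

theorem isRegular_prod {B : Type*} [CommRing B] {r : ℕ} {g : Fin r → B} (hreg : ∀ i, IsRegular (g i)) :
    IsRegular (∏ j, g j) := IsRegular.prod fun j _ => hreg j

end Groth.L09.LogNCD
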