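import Groth.Prelude.Def_LogNCD
import Groth.Prelude.Def_FlatMod2
import Groth.Agent.L09.LogNCD.Ring
import Groth.Agent.L19.OmegaSh.OmAff
import Groth.Agent.L19.ConormalBasis
import Groth.Agent.L27.KummerSNC.Coords
import Groth.Agent.L12.FrobLift.Chart

/-!
# Charts of a relative normal crossing divisor
-/

set_option autoImplicit false
set_option linter.style.haveILetI false
set_option backward.isDefEq.respectTransparency false
set_option backward.isDefEq.respectTransparency.types false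

universe u

open CategoryTheory CategoryTheory.Limits AlgebraicGeometry TopologicalSpace Opposite

noncomputable section

namespace Groth.L09.LogNCD

open Groth.L18.Frame (rs ro rs_rs ro_ro rs_smul ro_self rs_self)
open Groth.L19.OmegaSh (der_map exists_chart_affine bijective_rs_of_eq toOpen_smul bijective_toOpen_top)

variable {X S : Scheme.{u}} {f : X ⟶ S} {Ω' : X.Modules} {d : OmegaSh.Der f Ω'}

/-- A basis of the differentials of the rings gives a basis of sections of `Ω'`. -/
theorem bijective_sum_app (hd : OmegaSh.IsUniversal d) {U : X.Opens} (hU : IsAffineOpen U) {V : S.Opens}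
    (hV : IsAffineOpen V) (e : U ≤ f ⁻¹ᵁ V) {n : ℕ} (t : Fin n → Γ(X, U))
    (hb : letI : Algebra Γ(S, V) Γ(X, U) := (f.appLE V U e).hom.toAlgebra
      ∃ b : Module.Basis (Fin n) Γ(X, U) Ω[Γ(X, U)⁄Γ(S, V)],
        ∀ j, b j = KaehlerDifferential.D Γ(S, V) Γ(X, U) (t j)) :
    Function.Bijective fun c : Fin n → Γ(X, U) => ∑ j, c j • d.app U (t j) := by
  letI : Algebra Γ(S, V) Γ(X, U) := (f.appLE V U e).hom.toAlgebra
  obtain ⟨b, hb⟩ := hb
  obtain ⟨i, hi⟩ := exists_chart_affine hd hU hV e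
  let M : ModuleCat.{u} (CommRingCat.of Γ(X, U)) := ModuleCat.of Γ(X, U) Ω[Γ(X, U)⁄Γ(S, V)]
  let j := hU.fromSpec
  have hle : j ''ᵁ ⊤ ≤ U := ((Scheme.Hom.image_top_eq_opensRange j).trans hU.opensRange_fromSpec).le
  have hge : U ≤ j ''ᵁ ⊤ := ((Scheme.Hom.image_top_eq_opensRange j).trans hU.opensRange_fromSpec).ge
  have hW : ⊤ ≤ j ⁻¹ᵁ U := hU.fromSpec_preimage_self.ge
  have hγ : ∀ a : Γ(X, U), (j.appIso ⊤).inv ((Scheme.ΓSpecIso Γ(X, U)).inv a) = ro hle a := by
    intro a
    have h1 : j.appLE U ⊤ hW = (Scheme.ΓSpecIso Γ(X, U)).inv := by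
      rw [Scheme.Hom.appLE, hU.fromSpec_app_self, Category.assoc, ← Functor.map_comp]
      exact (congrArg ((Scheme.ΓSpecIso Γ(X, U)).inv ≫ ·) ((Spec Γ(X, U)).presheaf.map_id _)).trans
        (Category.comp_id _)
    rw [← h1]
    exact congr($(Scheme.Hom.appLE_appIso_inv j hW) a)
  let L : Γ(Ω', U) → Γ(tilde M, ⊤) := fun s => i.hom.app ⊤ (rs Ω' hle s)
  have hL : Function.Bijective L :=
    (ConcreteCategory.bijective_of_isIso (i.hom.app ⊤)).comp (bijective_rs_of_eq _ hle hge)
  have hLsum : ∀ c : Fin n → Γ(X, U), L (∑ j, c j • d.app U (t j)) =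
      (show Γ(tilde M, ⊤) from tilde.toOpen M ⊤ (∑ j, c j • b j : Ω[Γ(X, U)⁄Γ(S, V)])) := fun c => by
    show i.hom.app ⊤ (rs Ω' hle (∑ j, c j • d.app U (t j))) = _
    refine (congrArg (i.hom.app ⊤) (map_sum _ _ _)).trans ((map_sum (i.hom.app ⊤).hom _ _).trans ?_)
    refine Eq.trans ?_ (map_sum (tilde.toOpen M ⊤).hom _ _).symm
    refine Finset.sum_congr rfl fun l _ => ?_
    refine Eq.trans ?_ (toOpen_smul M (c l) (b l)).symm
    refine Eq.trans ?_ (congrArg (fun z => (Scheme.ΓSpecIso Γ(X, U)).inv (c l) •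
      (show Γ(tilde M, ⊤) from z)) ((hi (t l)).trans (congrArg (tilde.toOpen M ⊤).hom (hb l).symm)))
    refine Eq.trans ?_ (Scheme.Modules.Hom.app_smul i.hom ((Scheme.ΓSpecIso Γ(X, U)).inv (c l))
      ((Groth.L19.OmegaSh.resDer hU.fromSpec d).app ⊤ ((Scheme.ΓSpecIso Γ(X, U)).inv (t l))))
    refine congrArg (i.hom.app ⊤) ?_
    show rs Ω' hle (c l • d.app U (t l)) = (j.appIso ⊤).inv ((Scheme.ΓSpecIso Γ(X, U)).inv (c l)) •
      d.app (j ''ᵁ ⊤) ((j.appIso ⊤).inv ((Scheme.ΓSpecIso Γ(X, U)).inv (t l)))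
    rw [rs_smul, hγ, hγ, der_map]
  refine (Function.Bijective.of_comp_iff' hL _).1 ?_
  rw [show (L ∘ fun c : Fin n → Γ(X, U) => ∑ j, c j • d.app U (t j)) =
      (fun x : M => (show Γ(tilde M, ⊤) from tilde.toOpen M ⊤ x)) ∘
        (fun c : Fin n → Γ(X, U) => (∑ j, c j • b j : Ω[Γ(X, U)⁄Γ(S, V)])) from funext hLsum]
  refine (bijective_toOpen_top M).comp ?_
  rw [show (fun c : Fin n → Γ(X, U) => ∑ j, c j • b j) = b.equivFun.symm from
    funext fun c => (b.equivFun_symm_apply c).symm]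
  exact b.equivFun.symm.bijective

variable (f) in
/-- On an affine open in a chart the coordinate differentials form a basis. -/
theorem chart_affine {W : X.Opens} {n : ℕ} (v : ULift.{u} (Fin n) → Γ(W, ⊤))
    [Etale (AffineSpace.homOfVector (W.ι ≫ f) v)] {U : X.Opens} (hU : IsAffineOpen U) (hUW : U ≤ W)
    {V : S.Opens} (hV : IsAffineOpen V) (e : U ≤ f ⁻¹ᵁ V) :
    (letI : Algebra Γ(S, V) Γ(X, U) := (f.appLE V U e).hom.toAlgebra
      ∃ b : Module.Basis (Fin n) Γ(X, U) Ω[Γ(X, U)⁄Γ(S, V)],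
        ∀ j, b j = KaehlerDifferential.D Γ(S, V) Γ(X, U) (LogNCD.sectOn W hUW (v (ULift.up j)))) ∧
      ∀ j, IsRegular (LogNCD.sectOn W hUW (v (ULift.up j))) := by
  letI : Algebra Γ(S, V) Γ(X, U) := (f.appLE V U e).hom.toAlgebra
  haveI : IsAffine (U : Scheme.{u}) := hU
  let g' := f.resLE V U e
  have hg' : g' ≫ V.ι = X.homOfLE hUW ≫ W.ι ≫ f := by
    rw [Scheme.Hom.resLE_comp_ι, Scheme.homOfLE_ι_assoc]
  have hev := Groth.L27.KummerSNC.etale_eval₂ (W.ι ≫ f) v hV (X.homOfLE hUW) g' hg'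
  let ev := MvPolynomial.eval₂Hom g'.appTop.hom ((X.homOfLE hUW).appTop ∘ v)
  let φ : MvPolynomial (ULift.{u} (Fin n)) Γ(S, V) →+* Γ(X, U) :=
    U.topIso.hom.hom.comp (ev.comp (MvPolynomial.map V.topIso.inv.hom))
  have hφ : φ.Etale := by
    refine RingHom.Etale.stableUnderComposition _ _ (RingHom.Etale.stableUnderComposition _ _ ?_ hev) ?_
    · exact RingHom.Etale.of_bijective
        (MvPolynomial.mapEquiv _ V.topIso.symm.commRingCatIsoToRingEquiv).bijective
    · exact RingHom.Etale.of_bijective U.topIso.commRingCatIsoToRingEquiv.bijective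
  have hC : φ.comp MvPolynomial.C = algebraMap Γ(S, V) Γ(X, U) := by
    refine RingHom.ext fun a => ?_
    simp only [φ, RingHom.coe_comp, Function.comp_apply, MvPolynomial.map_C, ev,
      MvPolynomial.coe_eval₂Hom, MvPolynomial.eval₂_C]
    exact congrArg (fun t => t a) (show V.topIso.inv ≫ g'.appTop ≫ U.topIso.hom = f.appLE V U e by
      simp [g', Scheme.Hom.appTop, Scheme.Hom.resLE_app_top])
  have hX : ∀ j, φ (MvPolynomial.X j) = LogNCD.sectOn W hUW (v j) := fun j => by
    simp only [φ, RingHom.coe_comp, Function.comp_apply, MvPolynomial.map_X, ev,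
      MvPolynomial.coe_eval₂Hom, MvPolynomial.eval₂_X, LogNCD.sectOn]
    exact congrArg (fun t => t (v j)) (show (X.homOfLE hUW).appTop ≫ U.topIso.hom =
      W.topIso.hom ≫ X.presheaf.map (homOfLE hUW).op by
        simp only [Scheme.Opens.topIso_hom, Scheme.homOfLE_appTop]
        erw [← X.presheaf.map_comp, ← X.presheaf.map_comp]
        rfl)
  obtain ⟨⟨b, hb⟩, hreg⟩ := basis_of_etale φ hC hφ
  refine ⟨⟨b.reindex Equiv.ulift, fun j => ?_⟩, fun j => hX (ULift.up j) ▸ hreg (ULift.up j)⟩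
  rw [Module.Basis.reindex_apply, hb, hX]
  rfl

variable {r : ℕ} {D : Fin r → X.IdealSheafData}

/-- What is used about local equations of the components on an affine open. -/
structure Eqs (d : OmegaSh.Der f Ω') (D : Fin r → X.IdealSheafData) (U : X.affineOpens) (g : Fin r → Γ(X, U.1)) :
    Prop where
  ideal_eq : ∀ i, (D i).ideal U = Ideal.span {g i}
  regular : ∀ i, IsRegular (g i)
  smul_inj : ∀ m : Γ(Ω', U.1), (∏ i, g i) • m = 0 → m = 0
  indep : ∀ (c : Fin r → Γ(X, U.1)) (m : Γ(Ω', U.1)),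
    ∑ i, (c i * ∏ j ∈ Finset.univ.erase i, g j) • d.app U.1 (g i) = (∏ i, g i) • m → ∀ i, c i ∈ Ideal.span {g i}

theorem ideal_eq_top {I : X.IdealSheafData} {U : X.affineOpens} (h : ∀ x ∈ U.1, x ∉ I.support) :
    I.ideal U = ⊤ := by
  rw [← PrimeSpectrum.zeroLocus_empty_iff_eq_top, ← Set.image_eq_empty (f := U.2.fromSpec),
    U.2.fromSpec_image_zeroLocus, Set.eq_empty_iff_forall_notMem]
  rintro x ⟨hx, hxU⟩
  exact h x hxU ((Scheme.IdealSheafData.mem_support_iff_of_mem hxU).2 hx)

/-- Coordinates near a point of the divisor: a basis of differentials containing those of the equations. -/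
theorem exists_basis (hd : OmegaSh.IsUniversal d) (hD : LogNCD.IsNCD D f) (x : X)
    (hx : Nonempty (LogNCD.Through D x)) :
    ∃ (O : X.Opens) (n : ℕ) (t : Fin n → Γ(X, O)) (e : LogNCD.Through D x → Fin n),
      x ∈ O ∧ Function.Injective e ∧ Groth.L19.ConormalBasis.IsBasisS Ω' (fun j => d.app O (t j)) ∧
        (∀ (U : X.affineOpens) (h : U.1 ≤ O), ∀ j, IsRegular (ro h (t j))) ∧
        (∀ (U : X.affineOpens) (h : U.1 ≤ O) (i : LogNCD.Through D x),
          (D i.1).ideal U = Ideal.span {ro h (t (e i))}) ∧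
        ∀ (U : X.affineOpens), U.1 ≤ O → ∀ i, x ∉ (D i).support → (D i).ideal U = ⊤ := by
  obtain ⟨W, hxW, n, v, e, he, hW, hv, hoff⟩ := hD x hx
  haveI := hW
  obtain ⟨_, ⟨V, hV, rfl⟩, hxV, -⟩ :=
    S.isBasis_affineOpens.exists_subset_of_mem_open (Set.mem_univ (f x)) isOpen_univ
  let O : X.Opens := W ⊓ f ⁻¹ᵁ V
  let t : Fin n → Γ(X, O) := fun j => LogNCD.sectOn W inf_le_left (v (ULift.up j))
  have ht : ∀ (U : X.Opens) (h : U ≤ O) (j : Fin n),
      ro h (t j) = LogNCD.sectOn W (h.trans inf_le_left) (v (ULift.up j)) := fun U h j => ro_ro _ _ _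
  refine ⟨O, n, t, e, ⟨hxW, hxV⟩, he, Groth.L12.FrobLift.isBasisS_of_affine _ fun U hU => ?_, fun U h j => ?_,
    fun U h i => ?_, fun U h i hi => hoff i hi U (h.trans inf_le_left)⟩
  · rw [show (fun c : Fin n → Γ(X, U.1) => ∑ j, c j • rs Ω' hU (d.app O (t j))) =
        fun c => ∑ j, c j • d.app U.1 (LogNCD.sectOn W (hU.trans inf_le_left) (v (ULift.up j))) from
      funext fun c => Finset.sum_congr rfl fun j _ => by rw [← der_map, ht]]
    exact bijective_sum_app hd U.2 hV (hU.trans inf_le_right) _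
      (chart_affine f v U.2 (hU.trans inf_le_left) hV (hU.trans inf_le_right)).1
  · rw [ht]
    exact (chart_affine f v U.2 (h.trans inf_le_left) hV (h.trans inf_le_right)).2 j
  · rw [ht]
    exact hv i U (h.trans inf_le_left)

/-- Near every point all smaller affine opens have good equations. -/
theorem exists_eqs (hd : OmegaSh.IsUniversal d) (hD : LogNCD.IsNCD D f) (x : X) :
    ∃ O : X.Opens, x ∈ O ∧ ∀ U : X.affineOpens, U.1 ≤ O → ∃ g, Eqs d D U g := by
  classical
  by_cases hx : Nonempty (LogNCD.Through D x)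
  · obtain ⟨O, n, t, e, hxO, he, hb, hreg, hideal, htop⟩ := exists_basis hd hD x hx
    refine ⟨O, hxO, fun U hU => ?_⟩
    let g : Fin r → Γ(X, U.1) := fun i => if h : x ∈ (D i).support then ro hU (t (e ⟨i, h⟩)) else 1
    have hg : ∀ i, IsRegular (g i) := fun i => by
      by_cases h : x ∈ (D i).support
      · simp only [g, dif_pos h]; exact hreg U hU _
      · simp only [g, dif_neg h]; exact isRegular_one
    let b : Module.Basis (Fin n) Γ(X, U.1) Γ(Ω', U.1) :=
      Module.Basis.ofEquivFun (LinearEquiv.ofBijective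
        (Fintype.linearCombination Γ(X, U.1) fun j => rs Ω' hU (d.app O (t j))) (by
          convert hb U.1 hU using 1
          funext c
          exact Fintype.linearCombination_apply _ _ _)).symm
    have hb' : ∀ j, b j = d.app U.1 (ro hU (t j)) := fun j => by
      rw [der_map]
      simp [b, Fintype.linearCombination_apply, Pi.single_apply, ite_smul]
    refine ⟨g, ⟨fun i => ?_, hg, fun m hm => ?_, fun c m hm => mem_span_of_rel hg (fun i => ?_) hm⟩⟩
    · by_cases h : x ∈ (D i).support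
      · simp only [g, dif_pos h]; exact hideal U hU ⟨i, h⟩
      · simp only [g, dif_neg h]; rw [Ideal.span_singleton_one]; exact htop U hU i h
    · refine b.equivFun.injective ?_
      rw [map_zero]
      funext j
      refine (isRegular_prod hg).left ?_
      have := congrFun (congrArg b.equivFun hm) j
      rw [map_smul, map_zero, Pi.smul_apply, smul_eq_mul, Pi.zero_apply] at this
      simpa using this
    · by_cases h : x ∈ (D i).support
      · refine Or.inr ⟨b.coord (e ⟨i, h⟩), ?_, fun j hj => ?_⟩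
        · simp only [g, dif_pos h]
          rw [← hb', b.coord_apply, b.repr_self, Finsupp.single_eq_same]
        · by_cases h' : x ∈ (D j).support
          · simp only [g, dif_pos h']
            rw [← hb', b.coord_apply, b.repr_self, Finsupp.single_eq_of_ne]
            exact fun he' => hj (congrArg Subtype.val (he he').symm)
          · simp only [g, dif_neg h']
            rw [show d.app U.1 (1 : Γ(X, U.1)) = 0 from d.d_one (op U.1), map_zero]
      · exact Or.inl (by simp only [g, dif_neg h]; exact isUnit_one)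
  · refine ⟨⟨(⋃ i, ((D i).support : Set X))ᶜ, (isClosed_iUnion_of_finite fun i => (D i).support.2).isOpen_compl⟩,
      fun h => by
        obtain ⟨i, hi⟩ := Set.mem_iUnion.1 h
        exact hx ⟨⟨i, hi⟩⟩, fun U hU => ⟨fun _ => 1, fun i => ?_, fun _ => isRegular_one,
      fun m hm => by simpa using hm, fun c m _ i => by simp⟩⟩
    rw [Ideal.span_singleton_one]
    exact ideal_eq_top fun y hy hyi => hU hy (Set.mem_iUnion.2 ⟨i, hyi⟩)

end Groth.L09.LogNCD
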