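import Groth.Agent.L09.LogNCD.Sub

/-!
# Generators of the forms with logarithmic poles
-/

set_option autoImplicit false
set_option linter.style.haveILetI false
set_option linter.unusedSectionVars false
set_option backward.isDefEq.respectTransparency false
set_option backward.isDefEq.respectTransparency.types false

universe u

open CategoryTheory CategoryTheory.Limits AlgebraicGeometry TopologicalSpace Opposite

noncomputable section

namespace Groth.L09.LogNCD

open Groth.L18.Frame (rs ro rs_rs ro_ro rs_smul ro_self rs_self ro_mul)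

variable {X S : Scheme.{u}} {f : X ⟶ S} {Ω' : X.Modules} {d : OmegaSh.Der f Ω'} {r : ℕ}
  {D : Fin r → X.IdealSheafData}

variable (hd : OmegaSh.IsUniversal d) (hD : LogNCD.IsNCD D f)

theorem isUnit_ro {U : X.affineOpens} {g : Fin r → Γ(X, U.1)}
    (hg : ∀ i, (D i).ideal U = Ideal.span {g i}) (i : Fin r) :
    IsUnit (ro (pre_le (D := D) (V := U.1)) (g i)) :=
  isUnit_of_dvd_unit (map_dvd (X.presheaf.map (homOfLE (pre_le (D := D) (V := U.1))).op).hom
    (Finset.dvd_prod_of_mem g (Finset.mem_univ i))) (isUnit_ro_prod hg)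

variable (d) in
/-- `dgᵢ / gᵢ` on the complement of the divisor. -/
def dlogVal (U : X.affineOpens) (g : Fin r → Γ(X, U.1)) (hg : ∀ i, (D i).ideal U = Ideal.span {g i}) (i : Fin r) :
    Γ(Ω', pre D U.1) :=
  ((isUnit_ro hg i).unit⁻¹ : Γ(X, pre D U.1)ˣ).1 • rs Ω' pre_le (d.app U.1 (g i))

theorem smul_dlogVal (U : X.affineOpens) (g : Fin r → Γ(X, U.1)) (hg : ∀ i, (D i).ideal U = Ideal.span {g i})
    (i : Fin r) :
    ro (pre_le (D := D) (V := U.1)) (g i) • dlogVal d U g hg i = rs Ω' pre_le (d.app U.1 (g i)) := by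
  rw [dlogVal, smul_smul, IsUnit.mul_val_inv, one_smul]

theorem rel_dlogVal (U : X.affineOpens) (g : Fin r → Γ(X, U.1)) (hg : ∀ i, (D i).ideal U = Ideal.span {g i})
    (i : Fin r) : Rel d D U.1 g (Pi.single i 1) (dlogVal d U g hg i) :=
  rel_dlog _ _ i _ (smul_dlogVal U g hg i)

include hd hD in
theorem mem_dlogVal (U : X.affineOpens) (g : Fin r → Γ(X, U.1)) (hg : ∀ i, (D i).ideal U = Ideal.span {g i})
    (i : Fin r) : Mem d D U.1 (dlogVal d U g hg i) :=
  mem_of_rel hd hD fun x hx => ⟨U, le_rfl, hx, g, Pi.single i 1, hg, by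
    rw [rs_self]; exact rel_dlogVal U g hg i⟩

/-- The logarithmic differential of the `i`th equation. -/
def dlog (U : X.affineOpens) (g : Fin r → Γ(X, U.1)) (hg : ∀ i, (D i).ideal U = Ideal.span {g i}) (i : Fin r) :
    Γ(logMod hd hD, U.1) :=
  mk hd hD (dlogVal d U g hg i) (mem_dlogVal hd hD U g hg i)

theorem exists_lift {U : X.affineOpens} (h : Γ(X, U.1)) (t : Γ(X, X.basicOpen h)) :
    ∃ (n : ℕ) (b : Γ(X, U.1)), ro (X.basicOpen_le h) b = ro (X.basicOpen_le h) (h ^ n) * t := by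
  haveI := U.2.isLocalization_basicOpen h
  obtain ⟨⟨b, ⟨_, n, rfl⟩⟩, hb⟩ := IsLocalization.surj (Submonoid.powers h) t
  exact ⟨n, b, hb.symm.trans (mul_comm _ _)⟩

include hd hD in
/-- On an affine open with principal equations every form with logarithmic poles is a combination of the `dgᵢ/gᵢ`
and a form without poles. -/
theorem rel_of_mem [Coh.IsQCoh Ω'] {U : X.affineOpens} {g : Fin r → Γ(X, U.1)}
    (hg : ∀ i, (D i).ideal U = Ideal.span {g i}) {z : Γ(Ω', pre D U.1)} (hz : Mem d D U.1 z) :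
    ∃ a, Rel d D U.1 g a z := by
  classical
  let I : Ideal Γ(X, U.1) :=
    { carrier := {c | ∃ a, Rel d D U.1 g a (ro (pre_le (D := D) (V := U.1)) c • z)}
      zero_mem' := ⟨0, by
        have := rel_ι (d := d) (D := D) U.1 g 0
        rwa [show rs Ω' (pre_le (D := D) (V := U.1)) 0 = 0 from map_zero _, ← zero_smul Γ(X, pre D U.1) z,
          ← map_zero (X.presheaf.map (homOfLE (pre_le (D := D) (V := U.1))).op).hom] at this⟩
      add_mem' := by
        rintro c c' ⟨a, ha⟩ ⟨a', ha'⟩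
        refine ⟨a + a', ?_⟩
        have := ha.add ha'
        rwa [← add_smul, ← map_add] at this
      smul_mem' := by
        rintro b c ⟨a, ha⟩
        refine ⟨b • a, ?_⟩
        have := ha.smul b
        rwa [smul_smul, ← ro_mul] at this }
  suffices hI : I = ⊤ by
    obtain ⟨a, ha⟩ : (1 : Γ(X, U.1)) ∈ I := hI ▸ trivial
    refine ⟨a, ?_⟩
    rwa [show ro (pre_le (D := D) (V := U.1)) 1 = 1 from map_one _, one_smul] at ha
  by_contra hI
  obtain ⟨P, hP, hIP⟩ := Ideal.exists_le_maximal I hI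
  let p : PrimeSpectrum Γ(X, U.1) := ⟨P, hP.isPrime⟩
  have hxU : U.2.fromSpec p ∈ U.1 := U.2.opensRange_fromSpec.le ⟨p, rfl⟩
  obtain ⟨U₁, hU₁, hxU₁, -, g₁, a₁, hg₁, h₁⟩ := hz _ hxU ⊤ trivial
  obtain ⟨h, hh, hxh⟩ := U.2.exists_basicOpen_le (V := U₁.1) ⟨_, hxU₁⟩ hxU
  have hhP : h ∉ P := by
    have : p ∈ U.2.fromSpec ⁻¹ᵁ X.basicOpen h := hxh
    rwa [U.2.fromSpec_preimage_basicOpen] at this
  have h₂ := ((Rel.convert (ideal_res hU₁ hg) hg₁.ideal_eq hg₁.regular).2 h₁).res hh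
  rw [rs_rs] at h₂
  obtain ⟨ω, hω⟩ := h₂
  obtain ⟨m₀, ω', hω'⟩ := Groth.L16.QCohSect.exists_pow_smul_eq_res U.2 Ω' h ω
  choose n b hb using fun i => exists_lift h (ro hh (a₁ i))
  let N := m₀ + ∑ i, n i
  let w : Γ(Ω', pre D U.1) := ro (pre_le (D := D) (V := U.1)) (h ^ N) • ro (pre_le (D := D) (V := U.1)) (∏ i, g i) • z -
    rs Ω' (pre_le (D := D) (V := U.1)) ((∏ i, g i) • (h ^ (N - m₀) • ω') +
      ∑ i, (h ^ (N - n i) * b i * ∏ j ∈ Finset.univ.erase i, g j) • d.app U.1 (g i))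
  have hU₂ : X.basicOpen h ≤ U.1 := X.basicOpen_le h
  have hprod : ∀ (s : Finset (Fin r)), ro hU₂ (∏ j ∈ s, g j) = ∏ j ∈ s, ro hU₂ (g j) := fun s =>
    map_prod (X.presheaf.map (homOfLE hU₂).op).hom _ _
  have hw : rs Ω' (pre_mono (D := D) hU₂) w = 0 := by
    refine (map_sub _ _ _).trans (sub_eq_zero.2 ?_)
    show rs Ω' (pre_mono (D := D) hU₂) _ = rs Ω' (pre_mono (D := D) hU₂) _
    have hG : ro (pre_le (D := D) (V := X.basicOpen h)) (∏ j, ro hh (ro hU₁ (g j))) =
        ro ((pre_mono hU₂).trans (pre_le (D := D) (V := U.1))) (∏ j, g j) := by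
      rw [Finset.prod_congr rfl fun j _ => ro_ro hU₁ hh (g j), ← hprod, ro_ro]
    rw [rs_smul, rs_smul, ro_ro, ro_ro, ← hG, hω, rs_rs, ← rs_rs Ω' hU₂ (pre_le (D := D) (V := X.basicOpen h)),
      ← ro_ro hU₂ (pre_le (D := D) (V := X.basicOpen h)), ← rs_smul]
    refine congrArg (rs Ω' pre_le) ?_
    refine Eq.trans ?_ (map_add _ _ _).symm
    refine Eq.trans (smul_add _ _ _) (congrArg₂ (· + ·) ?_ ?_)
    · show _ = rs Ω' hU₂ _
      rw [rs_smul, rs_smul, hω', smul_smul, smul_smul, smul_smul, hprod,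
        Finset.prod_congr rfl fun j _ => ro_ro hU₁ hh (g j)]
      refine congrArg (· • ω) ?_
      rw [show N = N - m₀ + m₀ from (Nat.sub_add_cancel (Nat.le_add_right _ _)).symm, pow_add, ro_mul,
        Nat.add_sub_cancel]
      ring
    · rw [Finset.smul_sum]
      refine Eq.trans ?_ (map_sum _ _ _).symm
      refine Finset.sum_congr rfl fun i _ => ?_
      show _ = rs Ω' hU₂ _
      rw [rs_smul, smul_smul, ← Groth.L19.OmegaSh.der_map]
      simp only [ro_ro]
      refine congrArg (· • d.app _ (ro hU₂ (g i))) ?_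
      rw [ro_mul, ro_mul, hb, hprod, show h ^ N = h ^ (N - n i) * h ^ n i by
        rw [← pow_add, Nat.sub_add_cancel
          ((Finset.single_le_sum (fun j _ => Nat.zero_le (n j)) (Finset.mem_univ i)).trans (Nat.le_add_left _ _))],
        ro_mul]
      ring
  have hle : X.basicOpen (ro (pre_le (D := D) (V := U.1)) h) ≤ pre D (X.basicOpen h) := by
    show X.basicOpen ((X.presheaf.map (homOfLE (pre_le (D := D) (V := U.1))).op) h) ≤ _
    rw [Scheme.basicOpen_res]
    exact fun y hy => mem_pre.2 ⟨hy.2, (mem_pre.1 hy.1).2⟩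
  have hw' : rs Ω' (X.basicOpen_le (ro (pre_le (D := D) (V := U.1)) h)) w = 0 := by
    rw [← rs_rs Ω' (pre_mono (D := D) hU₂) hle, hw]
    exact map_zero _
  obtain ⟨k, hk⟩ := Groth.L16.QCohSect.exists_pow_smul_eq_zero (isAffineOpen_pre hg) Ω' _ w hw'
  refine hhP (hP.isPrime.mem_of_pow_mem (k + N) (hIP ?_))
  refine ⟨fun i => h ^ k * (h ^ (N - n i) * b i), h ^ k • h ^ (N - m₀) • ω', ?_⟩
  simp only [w, smul_sub, sub_eq_zero] at hk
  rw [← map_pow, ← rs_smul, smul_smul, smul_smul, ← ro_mul, ← pow_add] at hk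
  rw [smul_smul, ← ro_mul, mul_comm, ro_mul, ← smul_smul] at hk
  refine hk.trans ?_
  refine congrArg (rs Ω' pre_le) ?_
  rw [smul_add, Finset.smul_sum, smul_comm]
  refine congrArg₂ (· + ·) ?_ (Finset.sum_congr rfl fun i _ => ?_)
  · rw [smul_smul, smul_smul, smul_smul]
    congr 1
    ring
  · rw [smul_smul, mul_assoc (h ^ k)]

include hd hD in
theorem exists_comb [Coh.IsQCoh Ω'] {U : X.affineOpens} {g : Fin r → Γ(X, U.1)}
    (hg : ∀ i, (D i).ideal U = Ideal.span {g i}) (z : Γ(logMod hd hD, U.1)) :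
    ∃ (ω : Γ(Ω', U.1)) (a : Fin r → Γ(X, U.1)),
      z = (incl hd hD).app U.1 ω + ∑ i, a i • dlog hd hD U g hg i := by
  obtain ⟨a, ω, hω⟩ := rel_of_mem hd hD hg (val_mem hd hD z)
  refine ⟨ω, a, val_injective hd hD ((isUnit_ro_prod hg).smul_left_cancel.1 ?_)⟩
  rw [hω, val_add, smul_add]
  refine (map_add _ _ _).trans (congrArg₂ (· + ·) ?_ ?_)
  · show rs Ω' pre_le _ = _
    rw [val_incl, rs_smul]
  · let F : Γ(logMod hd hD, U.1) →+ Γ(Ω', pre D U.1) := AddMonoidHom.mk' (val hd hD) (val_add hd hD)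
    rw [show val hd hD (∑ i, a i • dlog hd hD U g hg i) = ∑ i, val hd hD (a i • dlog hd hD U g hg i) from
      map_sum F _ _, Finset.smul_sum]
    refine (map_sum _ _ _).trans (Finset.sum_congr rfl fun i _ => ?_)
    show rs Ω' pre_le _ = _
    rw [val_smul, rs_smul, smul_smul, dlog, val_mk, ← smul_dlogVal U g hg i, smul_smul,
      ← Finset.mul_prod_erase _ g (Finset.mem_univ i), ro_mul, ro_mul]
    refine congrArg (· • dlogVal d U g hg i) ?_
    ring

end Groth.L09.LogNCD
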