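import Groth.Agent.L09.LogNCD.Struct
import Groth.Agent.L12.FinCov.Basis
import Groth.Agent.L17.FinLocBases
import Groth.Agent.L05.OmegaRank.Free

/-!
# Local freeness of log differentials
-/

set_option autoImplicit false
set_option linter.style.haveILetI false
set_option linter.unusedSectionVars false
set_option backward.isDefEq.respectTransparency false
set_option backward.isDefEq.respectTransparency.types false

universe u

open CategoryTheory CategoryTheory.Limits AlgebraicGeometry TopologicalSpace Opposite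

noncomputable section

namespace Groth.L09.LogNCD

open Groth.L18.Frame (rs ro rs_rs ro_ro rs_smul ro_self rs_self ro_mul)
open Groth.L19.ConormalBasis (IsBasisS)
open Groth.L19.OmegaSh (der_map)

variable {X S : Scheme.{u}} {f : X ⟶ S} {Ω' : X.Modules} {d : OmegaSh.Der f Ω'} {r : ℕ}
  {D : Fin r → X.IdealSheafData}

theorem exists_omega_frame (n : ℕ) [SmoothOfRelativeDimension n f] (hd : OmegaSh.IsUniversal d) (x : X) :
    ∃ (O : X.Opens) (s : Fin n → Γ(Ω', O)), x ∈ O ∧ IsBasisS Ω' s := by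
  obtain ⟨V, hV, U, hU, hxU, e, hf⟩ :=
    SmoothOfRelativeDimension.exists_isStandardSmoothOfRelativeDimension (n := n) (f := f) x
  letI : Algebra Γ(S, V) Γ(X, U) := (f.appLE V U e).hom.toAlgebra
  haveI : Algebra.IsStandardSmoothOfRelativeDimension n Γ(S, V) Γ(X, U) := hf
  haveI : Algebra.IsStandardSmooth Γ(S, V) Γ(X, U) :=
    Algebra.IsStandardSmoothOfRelativeDimension.isStandardSmooth n
  haveI : Nonempty U := ⟨⟨x, hxU⟩⟩
  haveI : Nontrivial Γ(X, U) := inferInstance
  have hr : Module.finrank Γ(X, U) Ω[Γ(X, U)⁄Γ(S, V)] = n :=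
    Module.finrank_eq_of_rank_eq ((Algebra.IsStandardSmoothOfRelativeDimension.iff_of_isStandardSmooth n).1 ‹_›)
  obtain ⟨i⟩ := Groth.L05.OmegaRank.free_of_basis hd hU.fromSpec hV.fromSpec
    (IsAffineOpen.SpecMap_appLE_fromSpec f hV hU e) (Module.finBasisOfFinrankEq _ _ hr)
  obtain ⟨s, hs⟩ := Groth.L17.FinLocBases.exists_isBasis Ω' i
  refine ⟨hU.fromSpec.opensRange.ι ''ᵁ ⊤, s, ?_, fun W h => hs W (homOfLE h)⟩
  rw [Scheme.Hom.image_top_eq_opensRange, Scheme.Opens.opensRange_ι, hU.opensRange_fromSpec]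
  exact hxU

theorem card_eq {O O' : X.Opens} {m n : ℕ} {s : Fin m → Γ(Ω', O)} {t : Fin n → Γ(Ω', O')} (hs : IsBasisS Ω' s)
    (ht : IsBasisS Ω' t) {x : X} (hx : x ∈ O) (hx' : x ∈ O') : m = n := by
  let W := O ⊓ O'
  haveI : Nonempty W := ⟨⟨x, hx, hx'⟩⟩
  haveI : Nontrivial Γ(X, W) := inferInstance
  let φ : (Fin m → Γ(X, W)) ≃ₗ[Γ(X, W)] Γ(Ω', W) := LinearEquiv.ofBijective
    (Fintype.linearCombination Γ(X, W) fun j => rs Ω' inf_le_left (s j)) (by
      convert hs W inf_le_left using 1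
      funext c
      exact Fintype.linearCombination_apply _ _ _)
  let ψ : (Fin n → Γ(X, W)) ≃ₗ[Γ(X, W)] Γ(Ω', W) := LinearEquiv.ofBijective
    (Fintype.linearCombination Γ(X, W) fun j => rs Ω' inf_le_right (t j)) (by
      convert ht W inf_le_right using 1
      funext c
      exact Fintype.linearCombination_apply _ _ _)
  exact eq_of_fin_equiv Γ(X, W) (φ.trans ψ.symm)

/-- Sections with regular multiples equal to a frame of the forms, generating on affines, form a frame. -/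
theorem isBasisS_log (Λ : _root_.LogNCD.LogMod d D) {U : X.affineOpens} {n : ℕ} {s : Fin n → Γ(Ω', U.1)}
    (hs : IsBasisS Ω' s) {ε : Fin n → Γ(Λ.L, U.1)} {μ : Fin n → Γ(X, U.1)}
    (hμ : ∀ (V : X.affineOpens) (h : V.1 ≤ U.1) j, IsRegular (ro h (μ j)))
    (hε : ∀ j, μ j • ε j = Λ.ι.app U.1 (s j))
    (hgen : ∀ (V : X.affineOpens) (h : V.1 ≤ U.1),
      ∃ (g : Fin r → Γ(X, V.1)) (dl : Fin r → Γ(Λ.L, V.1)), IsDl Λ V g dl ∧
        ∀ i, dl i ∈ Submodule.span Γ(X, V.1) (Set.range fun j => rs Λ.L h (ε j))) :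
    IsBasisS Λ.L ε := by
  refine Groth.L12.FrobLift.isBasisS_of_affine _ fun V h => ⟨?_, ?_⟩
  · haveI := Λ.mono
    have hlin : ∀ c : Fin n → Γ(X, V.1), (∏ j, ro h (μ j)) • ∑ j, c j • rs Λ.L h (ε j) =
        Λ.ι.app V.1 (∑ j, (c j * ∏ l ∈ Finset.univ.erase j, ro h (μ l)) • rs Ω' h (s j)) := fun c => by
      rw [map_sum, Finset.smul_sum]
      refine Finset.sum_congr rfl fun j _ => ?_
      rw [Scheme.Modules.Hom.app_smul, app_rs, ← hε, rs_smul, smul_smul, smul_smul,
        ← Finset.mul_prod_erase _ (fun l => ro h (μ l)) (Finset.mem_univ j)]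
      congr 1
      ring
    intro c c' hcc
    have h1 := congrArg (fun z => (∏ j, ro h (μ j)) • z) hcc
    dsimp only at h1
    rw [hlin, hlin] at h1
    funext j
    exact (IsRegular.prod fun l _ => hμ V h l).right (congrFun ((hs V.1 h).1 (injective_app Λ.ι V.1 h1)) j)
  · intro z
    obtain ⟨g, dl, hdl, hmem⟩ := hgen V h
    obtain ⟨ω, a, rfl⟩ := hdl.exists_comb z
    refine (Submodule.mem_span_range_iff_exists_fun _).1 (add_mem ?_ (Submodule.sum_mem _ fun i _ =>
      Submodule.smul_mem _ _ (hmem i)))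
    obtain ⟨c, rfl⟩ := (hs V.1 h).2 ω
    rw [map_sum]
    refine Submodule.sum_mem _ fun j _ => ?_
    rw [Scheme.Modules.Hom.app_smul, app_rs, ← hε, rs_smul, smul_smul]
    exact Submodule.smul_mem _ _ (Submodule.subset_span ⟨j, rfl⟩)

theorem dl_eq_zero (Λ : _root_.LogNCD.LogMod d D) {U : X.affineOpens} {g : Fin r → Γ(X, U.1)}
    {dl : Fin r → Γ(Λ.L, U.1)} (hdl : IsDl Λ U g dl) {i : Fin r} (hi : g i = 1) : dl i = 0 := by
  have h := hdl.smul_eq i
  rw [hi, one_smul, show d.app U.1 (1 : Γ(X, U.1)) = 0 from d.d_one (op U.1), map_zero] at h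
  exact h

theorem exists_log_frame (n : ℕ) [SmoothOfRelativeDimension n f] (hd : OmegaSh.IsUniversal d)
    (hD : _root_.LogNCD.IsNCD D f) (Λ : _root_.LogNCD.LogMod d D) (x : X) :
    ∃ (V : X.Opens) (ε : Fin n → Γ(Λ.L, V)), x ∈ V ∧ IsBasisS Λ.L ε := by
  classical
  obtain ⟨O, s, hxO, hs⟩ := exists_omega_frame n hd x
  by_cases hx : Nonempty (_root_.LogNCD.Through D x)
  · obtain ⟨O', m, t, e, hxO', he, hb, hreg, hideal, htop⟩ := exists_basis hd hD x hx
    obtain rfl : m = n := card_eq hb hs hxO' hxO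
    obtain ⟨_, ⟨U, hU, rfl⟩, hxU, hUO⟩ := X.isBasis_affineOpens.exists_subset_of_mem_open hxO' O'.2
    let g : Fin r → Γ(X, U) := fun i => if h : x ∈ (D i).support then ro hUO (t (e ⟨i, h⟩)) else 1
    have hg : ∀ (V : X.affineOpens) (h : V.1 ≤ U) i, (D i).ideal V = Ideal.span {ro h (g i)} := fun V h i => by
      by_cases hi : x ∈ (D i).support
      · simp only [g, dif_pos hi]; rw [ro_ro]; exact hideal V _ ⟨i, hi⟩
      · simp only [g, dif_neg hi]
        rw [show ro h (1 : Γ(X, U)) = 1 from map_one _, Ideal.span_singleton_one]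
        exact htop V (h.trans hUO) i hi
    obtain ⟨dl, hdl⟩ := exists_dl Λ (U := ⟨U, hU⟩) (g := g) (fun i => by rw [hg ⟨U, hU⟩ le_rfl i, ro_self])
    let ε : Fin m → Γ(Λ.L, U) := fun j =>
      if h : ∃ i, e i = j then dl h.choose.1 else Λ.ι.app U (rs Ω' hUO (d.app O' (t j)))
    let μ : Fin m → Γ(X, U) := fun j => if ∃ i, e i = j then ro hUO (t j) else 1
    refine ⟨U, ε, hxU, isBasisS_log Λ (U := ⟨U, hU⟩) (s := fun j => rs Ω' hUO (d.app O' (t j))) (μ := μ)
      (fun V hV => by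
        rw [show (fun c : Fin m → Γ(X, V) => ∑ j, c j • rs Ω' hV (rs Ω' hUO (d.app O' (t j)))) =
          fun c => ∑ j, c j • rs Ω' (hV.trans hUO) (d.app O' (t j)) by simp only [rs_rs]]
        exact hb V _)
      (fun V h j => ?_) (fun j => ?_) (fun V h => ?_)⟩
    · simp only [μ]
      split_ifs
      · rw [ro_ro]; exact hreg V _ j
      · rw [show ro h (1 : Γ(X, U)) = 1 from map_one _]; exact isRegular_one
    · simp only [μ, ε]
      split_ifs with hj
      · rw [← der_map]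
        have h1 : g hj.choose.1 = ro hUO (t j) := by
          simp only [g, dif_pos hj.choose.2]
          rw [show e ⟨hj.choose.1, hj.choose.2⟩ = j from hj.choose_spec]
        have h2 := hdl.smul_eq hj.choose.1
        rwa [h1] at h2
      · rw [one_smul]
    · obtain ⟨dl', hdl'⟩ := exists_dl Λ (g := fun i => ro h (g i)) (hg V h)
      refine ⟨_, dl', hdl', fun i => ?_⟩
      by_cases hi : x ∈ (D i).support
      · have hj : ∃ i', e i' = e ⟨i, hi⟩ := ⟨_, rfl⟩
        have h1 : hj.choose = ⟨i, hi⟩ := he hj.choose_spec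
        have h2 : dl' i = rs Λ.L h (ε (e ⟨i, hi⟩)) := by
          simp only [ε, dif_pos hj, h1]
          refine sub_eq_zero.1 (torsion_free Λ (hg V h) ?_)
          rw [← Finset.mul_prod_erase _ (fun l => ro h (g l)) (Finset.mem_univ i), mul_comm, mul_smul, smul_sub,
            hdl'.smul_eq, ← rs_smul, hdl.smul_eq, ← app_rs, der_map, sub_self, smul_zero]
        rw [h2]
        exact Submodule.subset_span ⟨_, rfl⟩
      · rw [dl_eq_zero Λ hdl' (i := i) (by simp only [g, dif_neg hi]; exact map_one _)]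
        exact zero_mem _
  · have hxc : x ∈ comp D := fun h => by
      obtain ⟨i, hi⟩ := Set.mem_iUnion.1 h
      exact hx ⟨⟨i, hi⟩⟩
    obtain ⟨_, ⟨U, hU, rfl⟩, hxU, hUO⟩ :=
      X.isBasis_affineOpens.exists_subset_of_mem_open (show x ∈ (O ⊓ comp D : X.Opens) from ⟨hxO, hxc⟩)
        (O ⊓ comp D).isOpen
    have hUO' : U ≤ O := fun y hy => (hUO hy).1
    refine ⟨U, fun j => Λ.ι.app U (rs Ω' hUO' (s j)), hxU, isBasisS_log Λ (U := ⟨U, hU⟩)
      (s := fun j => rs Ω' hUO' (s j)) (μ := fun _ => 1)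
      (fun V hV => by
        rw [show (fun c : Fin n → Γ(X, V) => ∑ j, c j • rs Ω' hV (rs Ω' hUO' (s j))) =
          fun c => ∑ j, c j • rs Ω' (hV.trans hUO') (s j) by simp only [rs_rs]]
        exact hs V _)
      (fun V h j => by rw [show ro h (1 : Γ(X, U)) = 1 from map_one _]; exact isRegular_one)
      (fun j => one_smul _ _) (fun V h => ?_)⟩
    obtain ⟨dl, hdl⟩ := exists_dl Λ (U := V) (g := fun _ => 1) (fun i => by
      rw [Ideal.span_singleton_one]
      exact ideal_eq_top fun y hy hyi => (hUO (h hy)).2 (Set.mem_iUnion.2 ⟨i, hyi⟩))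
    exact ⟨_, dl, hdl, fun i => by rw [dl_eq_zero Λ hdl rfl]; exact zero_mem _⟩

end Groth.L09.LogNCD
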