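import Groth.Agent.L09.LogNCD.Chart
import Groth.Agent.L04.FinLocFreeHom
import Groth.Agent.L16.QCohSections
import Groth.Agent.L05.OmegaRank.Main
import Groth.Prelude.Def_Omega4

/-!
# Forms with logarithmic poles as sections on the complement of the divisor
-/

set_option autoImplicit false
set_option linter.style.haveILetI false
set_option linter.unusedSectionVars false
set_option backward.isDefEq.respectTransparency false
set_option backward.isDefEq.respectTransparency.types false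

universe u

open CategoryTheory CategoryTheory.Limits AlgebraicGeometry TopologicalSpace Opposite

noncomputable section

namespace Groth.L09.LogNCD

open Groth.L18.Frame (rs ro rs_rs ro_ro rs_smul ro_self rs_self ro_mul)
open Groth.L19.OmegaSh (der_map der_mul)

variable {X S : Scheme.{u}} {f : X ⟶ S} {Ω' : X.Modules} {d : OmegaSh.Der f Ω'} {r : ℕ}
  {D : Fin r → X.IdealSheafData}

/-- Differentials of a smooth morphism are quasi-coherent. -/
theorem isQCoh_of_smooth [Smooth f] (hd : OmegaSh.IsUniversal d) : Coh.IsQCoh Ω' := by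
  refine Groth.L04.FinLocFreeHom.isQCoh_of_finLocFree fun x => ?_
  obtain ⟨U, n, hxU, hi, -⟩ := Groth.L05.OmegaRank.exists_free_of_mem_smoothLocus hd x
    (show x ∈ f.smoothLocus by rw [Scheme.Hom.smoothLocus_eq_top]; trivial)
  exact ⟨U, n, hxU, hi⟩

variable (D) in
/-- The complement of the divisor. -/
def comp : X.Opens :=
  ⟨(⋃ i, ((D i).support : Set X))ᶜ, (isClosed_iUnion_of_finite fun i => (D i).support.2).isOpen_compl⟩

variable (D) in
/-- The trace of an open on the complement of the divisor. -/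
abbrev pre (V : X.Opens) : X.Opens := (comp D).ι ''ᵁ ((comp D).ι ⁻¹ᵁ V)

theorem mem_pre {V : X.Opens} {x : X} : x ∈ pre D V ↔ x ∈ V ∧ ∀ i, x ∉ (D i).support := by
  constructor
  · rintro ⟨⟨y, hy⟩, hyV, rfl⟩
    exact ⟨hyV, fun i hi => hy (Set.mem_iUnion.2 ⟨i, hi⟩)⟩
  · rintro ⟨hV, h⟩
    exact ⟨⟨x, fun hx => by obtain ⟨i, hi⟩ := Set.mem_iUnion.1 hx; exact h i hi⟩, hV, rfl⟩

theorem pre_le {V : X.Opens} : pre D V ≤ V := (comp D).ι.image_preimage_le V

theorem pre_mono {V V' : X.Opens} (h : V' ≤ V) : pre D V' ≤ pre D V :=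
  fun _ hx => mem_pre.2 ⟨h (mem_pre.1 hx).1, (mem_pre.1 hx).2⟩

theorem basicOpen_prod {U : X.Opens} (g : Fin r → Γ(X, U)) {x : X} (hx : x ∈ U) :
    x ∈ X.basicOpen (∏ i, g i) ↔ ∀ i, x ∈ X.basicOpen (g i) := by
  simp only [Scheme.mem_basicOpen X _ x hx, map_prod]
  exact ⟨fun h i => IsUnit.prod_iff.1 h i (Finset.mem_univ i), fun h => IsUnit.prod_iff.2 fun i _ => h i⟩

/-- The complement of the divisor in an affine open with principal equations. -/
theorem pre_eq {U : X.affineOpens} {g : Fin r → Γ(X, U.1)} (hg : ∀ i, (D i).ideal U = Ideal.span {g i}) :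
    pre D U.1 = X.basicOpen (∏ i, g i) := by
  ext x
  show x ∈ pre D U.1 ↔ x ∈ X.basicOpen (∏ i, g i)
  have key : x ∈ U.1 → ∀ i, (x ∈ (D i).support ↔ x ∉ X.basicOpen (g i)) := fun hx i => by
    rw [Scheme.IdealSheafData.mem_support_iff_of_mem hx, hg i, Scheme.zeroLocus_span,
      Scheme.mem_zeroLocus_iff]
    simp
  rw [mem_pre]
  constructor
  · rintro ⟨hx, h⟩
    exact (basicOpen_prod g hx).2 fun i => by_contra fun h' => h i ((key hx i).2 h')
  · intro h
    have hx := X.basicOpen_le _ h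
    exact ⟨hx, fun i hi => (key hx i).1 hi ((basicOpen_prod g hx).1 h i)⟩

theorem isUnit_ro_prod {U : X.affineOpens} {g : Fin r → Γ(X, U.1)}
    (hg : ∀ i, (D i).ideal U = Ideal.span {g i}) :
    IsUnit (ro (pre_le (D := D) (V := U.1)) (∏ i, g i)) := by
  have h := (RingedSpace.isUnit_res_basicOpen X.toRingedSpace (∏ i, g i)).map
    (X.presheaf.map (homOfLE (pre_eq hg).le).op).hom
  exact (ro_ro (X.basicOpen_le (∏ i, g i)) (pre_eq hg).le (∏ i, g i)) ▸ h

theorem isAffineOpen_pre {U : X.affineOpens} {g : Fin r → Γ(X, U.1)}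
    (hg : ∀ i, (D i).ideal U = Ideal.span {g i}) : IsAffineOpen (pre D U.1) :=
  pre_eq hg ▸ U.2.basicOpen _

theorem ideal_res {U U' : X.affineOpens} (h : U'.1 ≤ U.1) {g : Fin r → Γ(X, U.1)}
    (hg : ∀ i, (D i).ideal U = Ideal.span {g i}) (i : Fin r) :
    (D i).ideal U' = Ideal.span {ro h (g i)} := by
  rw [← (D i).map_ideal (U := U') (V := U) h, hg i, Ideal.map_span, Set.image_singleton]
  rfl

theorem exists_units {U : X.affineOpens} {g g' : Fin r → Γ(X, U.1)}
    (hg : ∀ i, (D i).ideal U = Ideal.span {g i}) (hg' : ∀ i, (D i).ideal U = Ideal.span {g' i})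
    (hreg : ∀ i, IsRegular (g' i)) : ∃ v : Fin r → Γ(X, U.1)ˣ, ∀ i, g i = (v i : Γ(X, U.1)) * g' i := by
  have hv : ∀ i, ∃ v : Γ(X, U.1)ˣ, g i = (v : Γ(X, U.1)) * g' i := fun i => by
    obtain ⟨a, ha⟩ := Ideal.mem_span_singleton'.1
      (show g i ∈ Ideal.span {g' i} from (hg' i) ▸ (hg i).symm ▸ Ideal.mem_span_singleton_self _)
    obtain ⟨b, hb⟩ := Ideal.mem_span_singleton'.1
      (show g' i ∈ Ideal.span {g i} from (hg i) ▸ (hg' i).symm ▸ Ideal.mem_span_singleton_self _)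
    refine ⟨Units.mkOfMulEqOne a b ?_, ha.symm⟩
    refine (hreg i).right ?_
    dsimp only
    rw [one_mul]
    calc a * b * g' i = b * (a * g' i) := by ring
      _ = g' i := by rw [ha, hb]
  choose v hv using hv
  exact ⟨v, hv⟩

variable (d D) in
/-- `z`, a form on the complement of the divisor in `U`, is `ω₀ + ∑ aᵢ dgᵢ/gᵢ`. -/
def Rel (U : X.Opens) (g a : Fin r → Γ(X, U)) (z : Γ(Ω', pre D U)) : Prop :=
  ∃ ω₀ : Γ(Ω', U), ro (pre_le (D := D) (V := U)) (∏ i, g i) • z =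
    rs Ω' (pre_le (D := D) (V := U)) ((∏ i, g i) • ω₀ + ∑ i, (a i * ∏ j ∈ Finset.univ.erase i, g j) • d.app U (g i))

theorem Rel.add {U : X.Opens} {g a a' : Fin r → Γ(X, U)} {z z' : Γ(Ω', pre D U)} (h : Rel d D U g a z)
    (h' : Rel d D U g a' z') : Rel d D U g (a + a') (z + z') := by
  obtain ⟨ω, hω⟩ := h
  obtain ⟨ω', hω'⟩ := h'
  refine ⟨ω + ω', ?_⟩
  rw [smul_add, hω, hω', ← map_add]
  refine congrArg (rs Ω' pre_le) ?_
  simp only [Pi.add_apply, smul_add, add_mul, add_smul, Finset.sum_add_distrib]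
  abel

theorem Rel.smul {U : X.Opens} {g a : Fin r → Γ(X, U)} {z : Γ(Ω', pre D U)} (h : Rel d D U g a z)
    (c : Γ(X, U)) : Rel d D U g (c • a) (ro (pre_le (D := D) (V := U)) c • z) := by
  obtain ⟨ω, hω⟩ := h
  refine ⟨c • ω, ?_⟩
  rw [smul_comm, hω, ← rs_smul]
  refine congrArg (rs Ω' pre_le) ?_
  simp only [smul_add, Finset.smul_sum, smul_smul, Pi.smul_apply, smul_eq_mul]
  congr 1
  · rw [mul_comm]
  · exact Finset.sum_congr rfl fun i _ => by rw [mul_assoc]

theorem rel_ι (U : X.Opens) (g : Fin r → Γ(X, U)) (ω : Γ(Ω', U)) :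
    Rel d D U g 0 (rs Ω' pre_le ω) := by
  refine ⟨ω, ?_⟩
  rw [← rs_smul]
  refine congrArg (rs Ω' pre_le) ?_
  simp

theorem rel_dlog (U : X.Opens) (g : Fin r → Γ(X, U)) (i : Fin r) (z : Γ(Ω', pre D U))
    (h : ro (pre_le (D := D) (V := U)) (g i) • z = rs Ω' pre_le (d.app U (g i))) :
    Rel d D U g (Pi.single i 1) z := by
  refine ⟨0, ?_⟩
  rw [smul_zero, zero_add, Finset.sum_eq_single i (fun j _ hj => by rw [Pi.single_eq_of_ne hj, zero_mul, zero_smul])
    (fun hi => absurd (Finset.mem_univ i) hi), Pi.single_eq_same, one_mul, rs_smul,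
    ← Finset.mul_prod_erase _ g (Finset.mem_univ i), ro_mul, mul_comm, mul_smul, h]

theorem Rel.res {U U' : X.Opens} (h : U' ≤ U) {g a : Fin r → Γ(X, U)} {z : Γ(Ω', pre D U)}
    (hz : Rel d D U g a z) :
    Rel d D U' (fun i => ro h (g i)) (fun i => ro h (a i)) (rs Ω' (pre_mono h) z) := by
  obtain ⟨ω, hω⟩ := hz
  refine ⟨rs Ω' h ω, ?_⟩
  have hP : ∀ (s : Finset (Fin r)) (c : Fin r → Γ(X, U)), ro h (∏ j ∈ s, c j) = ∏ j ∈ s, ro h (c j) :=
    fun s c => map_prod (X.presheaf.map (homOfLE h).op).hom _ _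
  have h1 := congrArg (rs Ω' (pre_mono (D := D) h)) hω
  rw [rs_smul, ro_ro, rs_rs] at h1
  rw [show ro (pre_le (D := D) (V := U')) (∏ i, ro h (g i)) =
    ro ((pre_mono h).trans pre_le) (∏ i, g i) by rw [← hP, ro_ro]]
  refine h1.trans ?_
  rw [← rs_rs Ω' h (pre_le (D := D) (V := U'))]
  refine congrArg (rs Ω' pre_le) ?_
  refine (map_add _ _ _).trans (congrArg₂ (· + ·) ?_
    ((map_sum _ _ _).trans (Finset.sum_congr rfl fun i _ => ?_)))
  · show rs Ω' h _ = _
    rw [rs_smul, hP]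
  · show rs Ω' h _ = _
    rw [rs_smul, ro_mul, hP, der_map]

/-- Changing the equations by units. -/
theorem Rel.change {U : X.Opens} {g g' a : Fin r → Γ(X, U)} (v : Fin r → Γ(X, U)ˣ)
    (hv : ∀ i, g i = (v i : Γ(X, U)) * g' i) {z : Γ(Ω', pre D U)} (hz : Rel d D U g a z) :
    Rel d D U g' a z := by
  obtain ⟨ω, hω⟩ := hz
  refine ⟨ω + ∑ i, (a i * ((v i)⁻¹ : Γ(X, U)ˣ)) • d.app U (v i : Γ(X, U)), ?_⟩
  let P : Γ(X, U)ˣ := ∏ i, v i
  have hg : ∏ i, g i = (P : Γ(X, U)) * ∏ i, g' i := by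
    rw [Finset.prod_congr rfl fun i _ => hv i, Finset.prod_mul_distrib, Units.coe_prod]
  have hcancel : Function.Injective fun m : Γ(Ω', pre D U) => ro (pre_le (D := D) (V := U)) (P : Γ(X, U)) • m :=
    fun _ _ h => (P.isUnit.map (X.presheaf.map (homOfLE pre_le).op).hom).smul_left_cancel.1 h
  refine hcancel ?_
  dsimp only
  rw [smul_smul, ← ro_mul, ← hg, hω, ← rs_smul]
  refine congrArg (rs Ω' pre_le) ?_
  simp only [smul_add, Finset.smul_sum, smul_smul]
  rw [hg, add_assoc, ← Finset.sum_add_distrib]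
  refine congrArg₂ (· + ·) rfl (Finset.sum_congr rfl fun i _ => ?_)
  have hP : (P : Γ(X, U)) = (∏ j ∈ Finset.univ.erase i, (v j : Γ(X, U))) * (v i : Γ(X, U)) := by
    rw [Units.coe_prod, mul_comm]
    exact (Finset.mul_prod_erase Finset.univ (fun j => (v j : Γ(X, U))) (Finset.mem_univ i)).symm
  rw [hv i, der_mul, smul_add, smul_smul, smul_smul, Finset.prod_congr rfl fun j _ => hv j,
    Finset.prod_mul_distrib, ← Finset.mul_prod_erase _ g' (Finset.mem_univ i), hP, add_comm]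
  have h1 : (v i : Γ(X, U)) * ((v i)⁻¹ : Γ(X, U)ˣ) = 1 := (v i).mul_inv
  congr 2
  · linear_combination (-(a i * (∏ j ∈ Finset.univ.erase i, (v j : Γ(X, U))) * g' i *
      ∏ j ∈ Finset.univ.erase i, g' j)) * h1
  · ring

theorem Rel.convert {U : X.affineOpens} {g g' a : Fin r → Γ(X, U.1)}
    (hg : ∀ i, (D i).ideal U = Ideal.span {g i}) (hg' : ∀ i, (D i).ideal U = Ideal.span {g' i})
    (hreg : ∀ i, IsRegular (g' i)) {z : Γ(Ω', pre D U.1)} :
    Rel d D U.1 g a z ↔ Rel d D U.1 g' a z := by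
  obtain ⟨v, hv⟩ := exists_units hg hg' hreg
  refine ⟨fun h => h.change v hv, fun h => h.change (fun i => (v i)⁻¹) fun i => ?_⟩
  rw [hv i, Units.inv_mul_cancel_left]

theorem rs_pre_eq_zero [Coh.IsQCoh Ω'] {U : X.affineOpens} {g : Fin r → Γ(X, U.1)} (hg : Eqs d D U g)
    {m : Γ(Ω', U.1)} (h : rs Ω' (pre_le (D := D)) m = 0) : m = 0 := by
  have h' : rs Ω' (X.basicOpen_le (∏ i, g i)) m = 0 := by
    rw [← rs_rs Ω' (pre_le (D := D)) (pre_eq hg.ideal_eq).ge, h]
    exact map_zero _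
  obtain ⟨k, hk⟩ := Groth.L16.QCohSect.exists_pow_smul_eq_zero U.2 Ω' _ m h'
  clear h h'
  induction k with
  | zero => rwa [pow_zero, one_smul] at hk
  | succ k ih => exact ih (hg.smul_inj _ (by rw [smul_smul, ← pow_succ']; exact hk))

/-- The coefficients are determined modulo the equations. -/
theorem Rel.unique [Coh.IsQCoh Ω'] {U : X.affineOpens} {g a a' : Fin r → Γ(X, U.1)} (hg : Eqs d D U g)
    {z : Γ(Ω', pre D U.1)} (h : Rel d D U.1 g a z) (h' : Rel d D U.1 g a' z) (i : Fin r) :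
    a i - a' i ∈ Ideal.span {g i} := by
  obtain ⟨ω, hω⟩ := h
  obtain ⟨ω', hω'⟩ := h'
  refine hg.indep (fun j => a j - a' j) (ω' - ω) ?_ i
  refine sub_eq_zero.1 (rs_pre_eq_zero hg ?_)
  have h0 := sub_eq_zero.2 (hω.symm.trans hω')
  rw [← map_sub] at h0
  rw [← h0]
  refine congrArg (rs Ω' pre_le) ?_
  simp only [sub_mul, sub_smul, Finset.sum_sub_distrib, smul_sub]
  abel

end Groth.L09.LogNCD
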