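import Groth.Agent.L09.LogNCD.Gen

/-!
# Residues of forms with logarithmic poles
-/

set_option autoImplicit false
set_option linter.style.haveILetI false
set_option linter.unusedSectionVars false
set_option backward.isDefEq.respectTransparency false
set_option backward.isDefEq.respectTransparency.types false

universe u

open CategoryTheory CategoryTheory.Limits AlgebraicGeometry TopologicalSpace Opposite

noncomputable section

namespace Groth.L09.LogNCD

open Groth.L18.Frame (rs ro rs_rs ro_ro rs_smul ro_self rs_self ro_mul)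
open _root_.LogNCD (oneOn)

variable {X S : Scheme.{u}} {f : X ⟶ S} {Ω' : X.Modules} {d : OmegaSh.Der f Ω'} {r : ℕ}
  {D : Fin r → X.IdealSheafData}

theorem rs_oneOn (I : X.IdealSheafData) {U U' : X.Opens} (h : U' ≤ U) :
    rs (ClSub.quotMod I) h (oneOn I U) = oneOn I U' := by
  refine (congr($((ClSub.toSubscheme I).mapPresheaf.naturality (homOfLE h).op)
    (OmegaSh.strSect X U 1))).symm.trans ?_
  refine congrArg ((ClSub.toSubscheme I).app U') ?_
  exact (OmegaSh.strSect_map (P := X) (W := U) (W' := U') h (1 : Γ(X, U))).symm.trans (congrArg (OmegaSh.strSect X U') (map_one _))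

theorem smul_oneOn_of_mem (I : X.IdealSheafData) (U : X.affineOpens) {c : Γ(X, U.1)} (hc : c ∈ I.ideal U) :
    c • (show Γ(ClSub.quotMod I, U.1) from oneOn I U.1) = 0 := by
  refine (Scheme.Modules.Hom.app_smul (ClSub.toSubscheme I) c (OmegaSh.strSect X U.1 1)).symm.trans ?_
  rw [← OmegaSh.strSect_mul, mul_one, OmegaSh.toSubscheme_app_strSect]
  have h : c ∈ RingHom.ker (I.subschemeι.app U.1).hom := by
    rw [Scheme.IdealSheafData.ker_subschemeι_app]; exact hc
  exact h

variable (hd : OmegaSh.IsUniversal d) (hD : LogNCD.IsNCD D f)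

/-- The characterising property of the residue of a section. -/
def IsResVal (i : Fin r) (V : X.Opens) (z : Γ(Ω', pre D V)) (s : Γ(ClSub.quotMod (D i), V)) : Prop :=
  ∀ (U : X.affineOpens) (h : U.1 ≤ V) (g a : Fin r → Γ(X, U.1)), (∀ j, (D j).ideal U = Ideal.span {g j}) →
    Rel d D U.1 g a (rs Ω' (pre_mono h) z) →
      rs (ClSub.quotMod (D i)) h s = a i • (show Γ(ClSub.quotMod (D i), U.1) from oneOn (D i) U.1)

theorem value_unique [Coh.IsQCoh Ω'] {U : X.affineOpens} {g a a' : Fin r → Γ(X, U.1)} (hg : Eqs d D U g)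
    {z : Γ(Ω', pre D U.1)} (h : Rel d D U.1 g a z) (h' : Rel d D U.1 g a' z) (i : Fin r) :
    a i • (show Γ(ClSub.quotMod (D i), U.1) from oneOn (D i) U.1) =
      a' i • (show Γ(ClSub.quotMod (D i), U.1) from oneOn (D i) U.1) := by
  rw [← sub_eq_zero, ← sub_smul]
  exact smul_oneOn_of_mem (D i) U (hg.ideal_eq i ▸ h.unique hg h' i)

include hd hD in
theorem existsUnique_resVal [Coh.IsQCoh Ω'] (i : Fin r) (V : X.Opens) (z : Γ(Ω', pre D V)) (hz : Mem d D V z) :
    ∃! s : Γ(ClSub.quotMod (D i), V), IsResVal (d := d) i V z s := by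
  classical
  let P : X.affineOpens → Prop := fun U => ∃ g, Eqs d D U g
  have hrel : ∀ (U : X.affineOpens) (p : P U) (h : U.1 ≤ V),
      ∃ a, Rel d D U.1 p.choose a (rs Ω' (pre_mono h) z) := fun U p h =>
    rel_of_mem hd hD p.choose_spec.ideal_eq (hz.res hd hD h)
  choose a ha using hrel
  have hcomp : ∀ (U U' : X.affineOpens) (p : P U) (p' : P U') (hZ : U.1 ≤ V) (hZ' : U'.1 ≤ V) (h : U'.1 ≤ U.1),
      rs (ClSub.quotMod (D i)) h (a U p hZ i • (show Γ(ClSub.quotMod (D i), U.1) from oneOn (D i) U.1)) =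
        a U' p' hZ' i • (show Γ(ClSub.quotMod (D i), U'.1) from oneOn (D i) U'.1) := by
    intro U U' p p' hZ hZ' h
    rw [rs_smul, rs_oneOn]
    have h1 := (ha U p hZ).pass h p.choose_spec.ideal_eq p'.choose_spec.ideal_eq p'.choose_spec.regular
    rw [rs_rs] at h1
    exact value_unique p'.choose_spec h1 (ha U' p' hZ') i
  obtain ⟨s, hs, hu⟩ := Groth.L19.OmegaSh.existsUnique_glue (ClSub.quotMod (D i)) P
    (fun x O hx => exists_small hd hD x O hx) V
    (fun U p h => a U p h i • (show Γ(ClSub.quotMod (D i), U.1) from oneOn (D i) U.1)) hcomp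
  refine ⟨s, fun U h g b hg hb => ?_, fun t ht => hu t fun U p h => ?_⟩
  · refine Groth.L19.OmegaSh.eq_of_basis (G := ClSub.quotMod (D i)) P (fun x O hx => exists_small hd hD x O hx)
      _ _ fun U' p hU' => ?_
    rw [rs_rs, hs U' p (hU'.trans h), rs_smul, rs_oneOn]
    have h1 := hb.pass hU' hg p.choose_spec.ideal_eq p.choose_spec.regular
    rw [rs_rs] at h1
    exact value_unique p.choose_spec (ha U' p (hU'.trans h)) h1 i
  · exact ht U h _ _ p.choose_spec.ideal_eq (ha U p h)

variable [Coh.IsQCoh Ω']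

/-- The residue of a section. -/
def resVal (i : Fin r) (V : X.Opens) (z : Γ(logMod hd hD, V)) : Γ(ClSub.quotMod (D i), V) :=
  (existsUnique_resVal hd hD i V _ (val_mem hd hD z)).choose

theorem resVal_spec (i : Fin r) (V : X.Opens) (z : Γ(logMod hd hD, V)) :
    IsResVal (d := d) i V (val hd hD z) (resVal hd hD i V z) :=
  (existsUnique_resVal hd hD i V _ (val_mem hd hD z)).choose_spec.1

theorem resVal_eq (i : Fin r) (V : X.Opens) (z : Γ(logMod hd hD, V)) (s : Γ(ClSub.quotMod (D i), V))
    (h : IsResVal (d := d) i V (val hd hD z) s) : resVal hd hD i V z = s :=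
  ((existsUnique_resVal hd hD i V _ (val_mem hd hD z)).choose_spec.2 s h).symm

theorem isResVal_of_local (i : Fin r) {V : X.Opens} (z : Γ(logMod hd hD, V)) (s : Γ(ClSub.quotMod (D i), V))
    (H : ∀ (U : X.affineOpens) (h : U.1 ≤ V) (g : Fin r → Γ(X, U.1)), Eqs d D U g →
      ∀ a, Rel d D U.1 g a (rs Ω' (pre_mono h) (val hd hD z)) →
      rs (ClSub.quotMod (D i)) h s = a i • (show Γ(ClSub.quotMod (D i), U.1) from oneOn (D i) U.1)) :
    IsResVal (d := d) i V (val hd hD z) s := by
  intro U h g a hg ha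
  refine Groth.L19.OmegaSh.eq_of_basis (G := ClSub.quotMod (D i)) (fun U => ∃ g, Eqs d D U g)
    (fun x O hx => exists_small hd hD x O hx) _ _ fun U' p hU' => ?_
  have h1 := ha.pass hU' hg p.choose_spec.ideal_eq p.choose_spec.regular
  rw [rs_rs] at h1
  rw [rs_rs, H U' (hU'.trans h) _ p.choose_spec _ h1, rs_smul, rs_oneOn]

theorem resVal_add (i : Fin r) (V : X.Opens) (z z' : Γ(logMod hd hD, V)) :
    resVal hd hD i V (z + z') = resVal hd hD i V z + resVal hd hD i V z' := by
  refine resVal_eq hd hD i V _ _ (isResVal_of_local hd hD i _ _ fun U h g hg a ha => ?_)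
  obtain ⟨b, hb⟩ := rel_of_mem hd hD hg.ideal_eq ((val_mem hd hD z).res hd hD h)
  obtain ⟨b', hb'⟩ := rel_of_mem hd hD hg.ideal_eq ((val_mem hd hD z').res hd hD h)
  have hab : Rel d D U.1 g (b + b') (rs Ω' (pre_mono h) (val hd hD (z + z'))) := by
    rw [val_add]
    rw [show rs Ω' (pre_mono h) (val hd hD z + val hd hD z') =
      rs Ω' (pre_mono h) (val hd hD z) + rs Ω' (pre_mono h) (val hd hD z') from map_add _ _ _]
    exact hb.add hb'
  refine (map_add _ _ _).trans ?_
  rw [value_unique hg ha hab, Pi.add_apply, add_smul]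
  exact congrArg₂ (· + ·) (resVal_spec hd hD i V z U h g b hg.ideal_eq hb)
    (resVal_spec hd hD i V z' U h g b' hg.ideal_eq hb')

theorem resVal_smul (i : Fin r) (V : X.Opens) (c : Γ(X, V)) (z : Γ(logMod hd hD, V)) :
    resVal hd hD i V (c • z) = c • resVal hd hD i V z := by
  refine resVal_eq hd hD i V _ _ (isResVal_of_local hd hD i _ _ fun U h g hg a ha => ?_)
  obtain ⟨b, hb⟩ := rel_of_mem hd hD hg.ideal_eq ((val_mem hd hD z).res hd hD h)
  have hab : Rel d D U.1 g (ro h c • b) (rs Ω' (pre_mono h) (val hd hD (c • z))) := by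
    rw [val_smul, rs_smul, ro_ro]
    have := hb.smul (ro h c)
    rwa [ro_ro] at this
  rw [value_unique hg ha hab, rs_smul, resVal_spec hd hD i V z U h g b hg.ideal_eq hb, smul_smul, Pi.smul_apply,
    smul_eq_mul]

theorem resVal_rs (i : Fin r) {V V' : X.Opens} (h : V' ≤ V) (z : Γ(logMod hd hD, V)) :
    resVal hd hD i V' (rs (logMod hd hD) h z) = rs (ClSub.quotMod (D i)) h (resVal hd hD i V z) := by
  refine resVal_eq hd hD i V' _ _ fun U hU g a hg ha => ?_
  rw [val_rs, rs_rs] at ha
  rw [rs_rs]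
  exact resVal_spec hd hD i V z U (hU.trans h) g a hg ha

/-- The residue along the `i`th component. -/
def resHom (i : Fin r) : logMod hd hD ⟶ ClSub.quotMod (D i) :=
  ⟨PresheafOfModules.homMk
    { app := fun V => AddCommGrpCat.ofHom
        (AddMonoidHom.mk' (resVal hd hD i V.unop) (resVal_add hd hD i V.unop))
      naturality := fun V W e => by
        ext z
        exact resVal_rs hd hD i e.unop.le z }
    (fun V c z => resVal_smul hd hD i V.unop c z)⟩

theorem resHom_app (i : Fin r) (V : X.Opens) (z : Γ(logMod hd hD, V)) :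
    (resHom hd hD i).app V z = resVal hd hD i V z := rfl

theorem incl_resHom (i : Fin r) : incl hd hD ≫ resHom hd hD i = 0 := by
  ext V ω
  refine resVal_eq hd hD i V ((incl hd hD).app V ω) 0 (isResVal_of_local hd hD i _ _ fun U h g hg a ha => ?_)
  have h0 : Rel d D U.1 g 0 (rs Ω' (pre_mono h) (val hd hD ((incl hd hD).app V ω))) := by
    rw [val_incl, rs_rs, ← rs_rs Ω' h (pre_le (D := D) (V := U.1))]
    exact rel_ι _ _ _
  rw [value_unique hg ha h0, Pi.zero_apply, zero_smul]
  exact map_zero _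

theorem resHom_dlog (U : X.affineOpens) (g : Fin r → Γ(X, U.1)) (hg : ∀ j, (D j).ideal U = Ideal.span {g j})
    (i j : Fin r) : (resHom hd hD i).app U.1 (dlog hd hD U g hg j) =
      (Pi.single j (1 : Γ(X, U.1)) : Fin r → Γ(X, U.1)) i •
        (show Γ(ClSub.quotMod (D i), U.1) from oneOn (D i) U.1) := by
  refine resVal_eq hd hD i U.1 _ _ (isResVal_of_local hd hD i _ _ fun U' h g' hg' a ha => ?_)
  rw [dlog, val_mk] at ha
  rw [rs_smul, rs_oneOn]
  exact value_unique hg' ((rel_dlogVal U g hg j).pass h hg hg'.ideal_eq hg'.regular) ha i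

end Groth.L09.LogNCD
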