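import Groth.Agent.L12.DefoSh.Conn
import Groth.Agent.L00.StalkFunctor
import Groth.Agent.L00.TensorColim
import Groth.Agent.L18.AffineApps
import Groth.Prelude.Def_LogNCD2

/-!
# Residues of logarithmic connections
-/

set_option autoImplicit false
set_option linter.style.haveILetI false
set_option linter.unusedSectionVars false
set_option backward.isDefEq.respectTransparency false
set_option backward.isDefEq.respectTransparency.types false

universe u

open CategoryTheory CategoryTheory.Limits AlgebraicGeometry TopologicalSpace Opposite TensorProduct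

noncomputable section

namespace Groth.L09.LogNCD

open Groth.L00 Groth.L00.StalkTensor Groth.L00.Tensor

variable {X S : Scheme.{u}} {f : X ⟶ S}

/-- Functions vanishing on a closed subscheme kill tensor products with its structure sheaf. -/
theorem smul_eq_zero_of_toSubscheme (E : X.Modules) (I : X.IdealSheafData) {U : X.Opens} (g : Γ(X, U))
    (hg : (ClSub.toSubscheme I).app U (OmegaSh.strSect X U g) = 0)
    (z : Γ(CohB1.tensorMod E (ClSub.quotMod I), U)) : g • z = 0 := by
  refine TopCat.Presheaf.section_ext ⟨(CohB1.tensorMod E (ClSub.quotMod I)).presheaf,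
    (CohB1.tensorMod E (ClSub.quotMod I)).isSheaf⟩ U _ _ fun x hx => ?_
  obtain ⟨t, ht⟩ := (Stk.τfun_bijective x E (ClSub.quotMod I)).2
    (StalkTensor.germ (pre (CohB1.tensorMod E (ClSub.quotMod I))) x hx z)
  have hkill : ∀ q : StalkTensor.St (pre (ClSub.quotMod I)) x,
      (X.presheaf.germ U x hx g : StalkTensor.Ox X x) • q = 0 := fun q => by
    obtain ⟨V, hV, n, rfl⟩ := StalkTensor.exists_germ (pre (ClSub.quotMod I)) x q
    let iU : U ⊓ V ⟶ U := homOfLE inf_le_left
    let iV : U ⊓ V ⟶ V := homOfLE inf_le_right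
    have hW : x ∈ U ⊓ V := ⟨hx, hV⟩
    rw [← StalkTensor.germ_rs (pre (ClSub.quotMod I)) x iV hW n,
      ← TopCat.Presheaf.germ_res_apply X.presheaf iU x hW g, ← StalkTensor.germ_smul' (pre (ClSub.quotMod I)) x hW]
    refine (congrArg (StalkTensor.germ _ x hW) ?_).trans (map_zero _)
    let n' : Γ(I.subscheme, I.subschemeι ⁻¹ᵁ (U ⊓ V)) :=
      (ClSub.quotMod I).presheaf.map iV.op n
    show I.subschemeι.app (U ⊓ V) (X.presheaf.map iU.op g) * n' = 0
    have h0 : I.subschemeι.app (U ⊓ V) (X.presheaf.map iU.op g) = 0 := by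
      rw [OmegaSh.toSubscheme_app_strSect] at hg
      refine (congr($(I.subschemeι.naturality iU.op) g)).trans ?_
      exact (congrArg _ hg).trans (map_zero (I.subscheme.presheaf.map ((Opens.map I.subschemeι.base).map iU.op.unop).op).hom)
    rw [h0]
    exact zero_mul n'
  have hkill' : ∀ w : StalkTensor.St (pre E) x ⊗[StalkTensor.Ox X x] StalkTensor.St (pre (ClSub.quotMod I)) x,
      (X.presheaf.germ U x hx g : StalkTensor.Ox X x) • w = 0 := fun w => by
    induction w using TensorProduct.induction_on with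
    | zero => exact smul_zero _
    | tmul p q => rw [← TensorProduct.tmul_smul, hkill q, TensorProduct.tmul_zero]
    | add a b ha hb => rw [smul_add, ha, hb, add_zero]
  have h1 : StalkTensor.germ (pre (CohB1.tensorMod E (ClSub.quotMod I))) x hx (g • z) = 0 := by
    refine (StalkTensor.germ_smul' (pre (CohB1.tensorMod E (ClSub.quotMod I))) x hx g z).trans ?_
    rw [← ht, ← Stk.τfun_smul, hkill' t, map_zero]
  exact h1.trans (map_zero _).symm

open Groth.L12.DefoSh (sa tm) in
open Groth.L12.FinCov (rM mkHom) in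
/-- Composing a connection with a map killing the exact forms gives a linear map. -/
theorem exists_linear_comp {L Q E : X.Modules} {δ : OmegaSh.Der f L}
    {nabla : Coh.toAb E ⟶ Coh.toAb (CohB1.tensorMod E L)} (hc : ConnSh.IsConn δ E nabla) (r : L ⟶ Q)
    (hr : ∀ (U : X.Opens) (t : Γ(X, U)), r.app U (δ.app U t) = 0) :
    ∃ ρ : E ⟶ CohB1.tensorMod E Q, (SheafOfModules.toSheaf X.ringCatSheaf).map ρ =
      nabla ≫ (SheafOfModules.toSheaf X.ringCatSheaf).map (KoszTw.tensorMap (𝟙 E) r) := by
  refine ⟨mkHom (fun V s => (KoszTw.tensorMap (𝟙 E) r).app V (sa nabla V s)) (fun V s t => ?_) (fun V a s => ?_)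
    (fun V V' h s => ?_), ?_⟩
  · rw [map_add, map_add]
  · have h1 : sa nabla V (a • s) = a • sa nabla V s + tm E L V s (δ.app V a) := hc V a s
    rw [h1, map_add, Scheme.Modules.Hom.app_smul]
    have h0 : (KoszTw.tensorMap (𝟙 E) r).app V (tm E L V s (δ.app V a)) = 0 := by
      refine (KoszTw.tensorMap_tmul (𝟙 E) r V s _).trans ?_
      rw [hr]
      unfold SecTwist.tmul
      rw [TensorProduct.tmul_zero]
      exact map_zero _
    rw [h0, add_zero]
  · show (KoszTw.tensorMap (𝟙 E) r).app V' (sa nabla V' (rM E h s)) =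
      rM (CohB1.tensorMod E Q) h ((KoszTw.tensorMap (𝟙 E) r).app V (sa nabla V s))
    exact (congrArg _ (congr($(nabla.hom.naturality (homOfLE h).op) s))).trans
      (congr($((KoszTw.tensorMap (𝟙 E) r).mapPresheaf.naturality (homOfLE h).op) (sa nabla V s)))
  · exact CategoryTheory.Sheaf.hom_ext
      (NatTrans.ext (funext fun U => ConcreteCategory.hom_ext _ _ fun e => rfl))

end Groth.L09.LogNCD
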