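import Groth.Agent.L09.LogNCD.Res
import Groth.Agent.L21.Mod.Stalks

/-!
# Local structure of a given module of logarithmic differentials
-/

set_option autoImplicit false
set_option linter.style.haveILetI false
set_option linter.unusedSectionVars false
set_option backward.isDefEq.respectTransparency false
set_option backward.isDefEq.respectTransparency.types false

universe u

open CategoryTheory CategoryTheory.Limits AlgebraicGeometry TopologicalSpace Opposite

noncomputable section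

namespace Groth.L09.LogNCD

open Groth.L18.Frame (rs ro rs_rs ro_ro rs_smul ro_self rs_self ro_mul)
open _root_.LogNCD (oneOn)

variable {X S : Scheme.{u}} {f : X ⟶ S} {Ω' : X.Modules} {d : OmegaSh.Der f Ω'} {r : ℕ}
  {D : Fin r → X.IdealSheafData}

theorem injective_app {A B : X.Modules} (η : A ⟶ B) [Mono η] (V : X.Opens) : Function.Injective (η.app V) := by
  intro s t h
  refine TopCat.Presheaf.section_ext ⟨A.presheaf, A.isSheaf⟩ V s t fun x hx => ?_
  refine (Groth.L21.Mod.mono_iff_stalk_injective η).1 inferInstance x ?_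
  exact (Groth.L21.Mod.stalkF_map_germ η V x hx s).trans
    ((congrArg (B.presheaf.germ V x hx) h).trans (Groth.L21.Mod.stalkF_map_germ η V x hx t).symm)

theorem app_rs {A B : X.Modules} (η : A ⟶ B) {U V : X.Opens} (h : V ≤ U) (s : Γ(A, U)) :
    η.app V (rs A h s) = rs B h (η.app U s) :=
  congr($(η.mapPresheaf.naturality (homOfLE h).op) s)

theorem smul_oneOn_eq_zero_iff (I : X.IdealSheafData) (U : X.affineOpens) (c : Γ(X, U.1)) :
    c • (show Γ(ClSub.quotMod I, U.1) from oneOn I U.1) = 0 ↔ c ∈ I.ideal U := by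
  refine ⟨fun h => ?_, smul_oneOn_of_mem I U⟩
  have h' := ((Scheme.Modules.Hom.app_smul (ClSub.toSubscheme I) c (OmegaSh.strSect X U.1 1)).trans h)
  rw [← OmegaSh.strSect_mul, mul_one, OmegaSh.toSubscheme_app_strSect] at h'
  rw [← I.ker_subschemeι_app U]
  exact h'

theorem exists_smul_oneOn (I : X.IdealSheafData) (U : X.affineOpens) (s : Γ(ClSub.quotMod I, U.1)) :
    ∃ c : Γ(X, U.1), c • (show Γ(ClSub.quotMod I, U.1) from oneOn I U.1) = s := by
  obtain ⟨c, hc⟩ := I.subschemeι_app_surjective U s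
  refine ⟨c, (Scheme.Modules.Hom.app_smul (ClSub.toSubscheme I) c (OmegaSh.strSect X U.1 1)).symm.trans ?_⟩
  rw [← OmegaSh.strSect_mul, mul_one, OmegaSh.toSubscheme_app_strSect]
  exact hc

variable (Λ : _root_.LogNCD.LogMod d D)

/-- The content of the defining rule. -/
structure IsDl (U : X.affineOpens) (g : Fin r → Γ(X, U.1)) (dl : Fin r → Γ(Λ.L, U.1)) : Prop where
  smul_eq : ∀ i, g i • dl i = Λ.ι.app U.1 (d.app U.1 (g i))
  exists_comb : ∀ z : Γ(Λ.L, U.1), ∃ (ω : Γ(Ω', U.1)) (a : Fin r → Γ(X, U.1)),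
    z = Λ.ι.app U.1 ω + ∑ i, a i • dl i
  res_eq : ∀ i j, (Λ.res j).app U.1 (dl i) =
    (Pi.single i (1 : Γ(X, U.1)) : Fin r → Γ(X, U.1)) j • (show Γ(ClSub.quotMod (D j), U.1) from oneOn (D j) U.1)

theorem torsion_free {U : X.affineOpens} {g : Fin r → Γ(X, U.1)}
    (hg : ∀ i, (D i).ideal U = Ideal.span {g i}) {z : Γ(Λ.L, U.1)} (h : (∏ i, g i) • z = 0) : z = 0 :=
  (Λ.rule U g hg).1 z h

theorem exists_dl {U : X.affineOpens} {g : Fin r → Γ(X, U.1)} (hg : ∀ i, (D i).ideal U = Ideal.span {g i}) :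
    ∃ dl, IsDl Λ U g dl := by
  obtain ⟨-, dl, h1, h2, h3, h4⟩ := Λ.rule U g hg
  refine ⟨dl, h1, fun z => ?_, fun i j => ?_⟩
  · have hz : (z : Λ.L.val.obj (op U.1)) ∈ Submodule.span Γ(X, U.1)
        (Set.range ((Λ.ι.val.app (op U.1)).hom) ∪ Set.range dl) := by rw [h2]; trivial
    induction hz using Submodule.span_induction with
    | mem y hy =>
      rcases hy with ⟨ω, rfl⟩ | ⟨i, rfl⟩
      · exact ⟨ω, 0, (show _ = Λ.ι.app U.1 ω + _ by simp; rfl)⟩
      · refine ⟨0, Pi.single i 1, ?_⟩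
        rw [map_zero, zero_add, Finset.sum_eq_single i (fun j _ hj => by rw [Pi.single_eq_of_ne hj, zero_smul])
          (fun hi => absurd (Finset.mem_univ i) hi), Pi.single_eq_same, one_smul]
    | zero => exact ⟨0, 0, by simp⟩
    | add y y' _ _ hy hy' =>
      obtain ⟨ω, a, rfl⟩ := hy
      obtain ⟨ω', a', rfl⟩ := hy'
      refine ⟨ω + ω', a + a', ?_⟩
      rw [map_add]
      simp only [Pi.add_apply, add_smul, Finset.sum_add_distrib]
      exact add_add_add_comm _ _ _ _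
    | smul c y _ hy =>
      obtain ⟨ω, a, rfl⟩ := hy
      refine ⟨c • ω, c • a, (smul_add (c : Γ(X, U.1)) (Λ.ι.app U.1 ω) (∑ i, a i • dl i)).trans ?_⟩
      rw [Finset.smul_sum, Scheme.Modules.Hom.app_smul]
      simp only [Pi.smul_apply, smul_eq_mul, mul_smul]
  · rcases eq_or_ne i j with rfl | hij
    · rw [Pi.single_eq_same, one_smul]; exact h3 i
    · rw [Pi.single_eq_of_ne hij.symm, zero_smul]; exact h4 i j hij

variable {Λ} {U : X.affineOpens} {g : Fin r → Γ(X, U.1)} {dl : Fin r → Γ(Λ.L, U.1)}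

theorem IsDl.res_comb (h : IsDl Λ U g dl) (ω : Γ(Ω', U.1)) (a : Fin r → Γ(X, U.1)) (j : Fin r) :
    (Λ.res j).app U.1 (Λ.ι.app U.1 ω + ∑ i, a i • dl i) =
      a j • (show Γ(ClSub.quotMod (D j), U.1) from oneOn (D j) U.1) := by
  rw [map_add, map_sum, show (Λ.res j).app U.1 (Λ.ι.app U.1 ω) = 0 from congr($(Λ.res_ι j).app U.1 ω), zero_add,
    Finset.sum_eq_single j (fun i _ hi => by
      rw [Scheme.Modules.Hom.app_smul, h.res_eq, Pi.single_eq_of_ne hi.symm, zero_smul, smul_zero])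
      (fun hj => absurd (Finset.mem_univ j) hj), Scheme.Modules.Hom.app_smul, h.res_eq, Pi.single_eq_same, one_smul]

theorem IsDl.prod_smul (h : IsDl Λ U g dl) (ω : Γ(Ω', U.1)) (a : Fin r → Γ(X, U.1)) :
    (∏ i, g i) • (Λ.ι.app U.1 ω + ∑ i, a i • dl i) = Λ.ι.app U.1
      ((∏ i, g i) • ω + ∑ i, (a i * ∏ j ∈ Finset.univ.erase i, g j) • d.app U.1 (g i)) := by
  rw [map_add, map_sum, Scheme.Modules.Hom.app_smul, smul_add, Finset.smul_sum]
  refine congrArg₂ (· + ·) rfl (Finset.sum_congr rfl fun i _ => ?_)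
  rw [Scheme.Modules.Hom.app_smul, ← h.smul_eq, smul_smul, smul_smul, ← Finset.mul_prod_erase _ g (Finset.mem_univ i)]
  congr 1
  ring

theorem IsDl.coeff_mem (h : IsDl Λ U g dl) (hg : Eqs d D U g) (ω : Γ(Ω', U.1)) (a : Fin r → Γ(X, U.1))
    (h0 : Λ.ι.app U.1 ω + ∑ i, a i • dl i = 0) (i : Fin r) : a i ∈ Ideal.span {g i} := by
  haveI := Λ.mono
  refine hg.indep a (-ω) ?_ i
  have h1 := h.prod_smul ω a
  rw [h0, smul_zero] at h1
  have h2 := injective_app Λ.ι U.1 (h1.symm.trans (map_zero _).symm)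
  rw [smul_neg, eq_neg_iff_add_eq_zero, add_comm]
  exact h2

theorem IsDl.eq_ι_of_mem (h : IsDl Λ U g dl) (hg : ∀ i, (D i).ideal U = Ideal.span {g i}) (ω : Γ(Ω', U.1))
    (a : Fin r → Γ(X, U.1)) (ha : ∀ i, a i ∈ (D i).ideal U) :
    ∃ ω', Λ.ι.app U.1 ω + ∑ i, a i • dl i = Λ.ι.app U.1 ω' := by
  choose c hc using fun i => Ideal.mem_span_singleton'.1 ((hg i) ▸ ha i)
  refine ⟨ω + ∑ i, c i • d.app U.1 (g i), ?_⟩
  rw [map_add, map_sum]
  refine congrArg₂ (· + ·) rfl (Finset.sum_congr rfl fun i _ => ?_)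
  rw [Scheme.Modules.Hom.app_smul, ← h.smul_eq, smul_smul, hc]

/-- Exactness from sections on a family of small affine opens. -/
theorem exact_of_small (hd : OmegaSh.IsUniversal d) (hD : _root_.LogNCD.IsNCD D f) (T : ShortComplex X.Modules)
    (h : ∀ (U : X.affineOpens) (g : Fin r → Γ(X, U.1)), Eqs d D U g → ∀ s : Γ(T.X₂, U.1), T.g.app U.1 s = 0 →
      ∃ t, T.f.app U.1 t = s) : T.Exact := by
  refine (Groth.L21.Mod.exact_iff_stalk T).2 fun p => ?_
  refine (ShortComplex.ab_exact_iff _).2 fun v hv => ?_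
  obtain ⟨O, hO, s, rfl⟩ := TopCat.Presheaf.exists_germ_eq (F := T.X₂.presheaf) (x := p) v
  have hv' := (Groth.L21.Mod.stalkF_map_germ T.g O p hO s).symm.trans hv
  obtain ⟨W, hpW, j, j', e⟩ := TopCat.Presheaf.germ_eq (F := T.X₃.presheaf) p hO hO _ 0
    (hv'.trans (map_zero _).symm)
  obtain ⟨U, ⟨g, hg⟩, hpU, hUW⟩ := exists_small hd hD p W hpW
  obtain ⟨t, ht⟩ := h U g hg (rs T.X₂ (hUW.trans j.le) s) (by
    rw [app_rs, ← rs_rs T.X₃ j.le hUW]
    exact (congrArg (rs T.X₃ hUW) (e.trans (map_zero _))).trans (map_zero _))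
  refine ⟨T.X₁.presheaf.germ U.1 p hpU t, ?_⟩
  refine (Groth.L21.Mod.stalkF_map_germ T.f _ p hpU t).trans ?_
  rw [ht]
  exact TopCat.Presheaf.germ_res_apply T.X₂.presheaf _ p hpU s

/-- An epimorphism from sections on a family of small affine opens. -/
theorem epi_of_small (hd : OmegaSh.IsUniversal d) (hD : _root_.LogNCD.IsNCD D f) {M N : X.Modules} (φ : M ⟶ N)
    (h : ∀ (U : X.affineOpens) (g : Fin r → Γ(X, U.1)), Eqs d D U g → Function.Surjective (φ.app U.1)) : Epi φ := by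
  refine (Groth.L21.Mod.epi_iff_stalk_surjective φ).2 fun p v => ?_
  obtain ⟨O, hO, s, rfl⟩ := TopCat.Presheaf.exists_germ_eq (F := N.presheaf) (x := p) v
  obtain ⟨U, ⟨g, hg⟩, hpU, hUO⟩ := exists_small hd hD p O hO
  obtain ⟨t, ht⟩ := h U g hg (rs N hUO s)
  refine ⟨M.presheaf.germ U.1 p hpU t, ?_⟩
  refine (Groth.L21.Mod.stalkF_map_germ φ _ p hpU t).trans ?_
  rw [ht]
  exact TopCat.Presheaf.germ_res_apply N.presheaf _ p hpU s

end Groth.L09.LogNCD
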