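import Groth.Agent.L09.LogNCD.Rel
import Mathlib.Algebra.Category.ModuleCat.Presheaf.Submodule

/-!
# The sheaf of forms with logarithmic poles
-/

set_option autoImplicit false
set_option linter.style.haveILetI false
set_option linter.unusedSectionVars false
set_option backward.isDefEq.respectTransparency false
set_option backward.isDefEq.respectTransparency.types false

universe u

open CategoryTheory CategoryTheory.Limits AlgebraicGeometry TopologicalSpace Opposite

noncomputable section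

namespace Groth.L09.LogNCD

open Groth.L18.Frame (rs ro rs_rs ro_ro rs_smul ro_self rs_self ro_mul)

variable {X S : Scheme.{u}} {f : X ⟶ S} {Ω' : X.Modules} {d : OmegaSh.Der f Ω'} {r : ℕ}
  {D : Fin r → X.IdealSheafData}

theorem exists_small (hd : OmegaSh.IsUniversal d) (hD : LogNCD.IsNCD D f) (x : X) (O : X.Opens) (hx : x ∈ O) :
    ∃ U : X.affineOpens, (∃ g, Eqs d D U g) ∧ x ∈ U.1 ∧ U.1 ≤ O := by
  obtain ⟨O₁, hx₁, hO₁⟩ := exists_eqs hd hD x
  obtain ⟨_, ⟨U, hU, rfl⟩, hxU, hUO⟩ :=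
    X.isBasis_affineOpens.exists_subset_of_mem_open (show x ∈ (O ⊓ O₁ : X.Opens) from ⟨hx, hx₁⟩) (O ⊓ O₁).isOpen
  exact ⟨⟨U, hU⟩, hO₁ ⟨U, hU⟩ fun y hy => (hUO hy).2, hxU, fun y hy => (hUO hy).1⟩

/-- Passing to a smaller affine open with its own equations. -/
theorem Rel.pass {U U' : X.affineOpens} (h : U'.1 ≤ U.1) {g a : Fin r → Γ(X, U.1)}
    (hg : ∀ i, (D i).ideal U = Ideal.span {g i}) {g' : Fin r → Γ(X, U'.1)}
    (hg' : ∀ i, (D i).ideal U' = Ideal.span {g' i}) (hreg : ∀ i, IsRegular (g' i)) {z : Γ(Ω', pre D U.1)}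
    (hz : Rel d D U.1 g a z) : Rel d D U'.1 g' (fun i => ro h (a i)) (rs Ω' (pre_mono h) z) :=
  (Rel.convert (ideal_res h hg) hg' hreg).1 (hz.res h)

variable (d D) in
/-- Locally of the form `ω₀ + ∑ aᵢ dgᵢ/gᵢ`. -/
def Mem (V : X.Opens) (z : Γ(Ω', pre D V)) : Prop :=
  ∀ x ∈ V, ∀ O : X.Opens, x ∈ O → ∃ (U : X.affineOpens) (h : U.1 ≤ V), x ∈ U.1 ∧ U.1 ≤ O ∧
    ∃ g a, Eqs d D U g ∧ Rel d D U.1 g a (rs Ω' (pre_mono h) z)

theorem mem_of_rel (hd : OmegaSh.IsUniversal d) (hD : LogNCD.IsNCD D f) {V : X.Opens} {z : Γ(Ω', pre D V)}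
    (H : ∀ x ∈ V, ∃ (U : X.affineOpens) (h : U.1 ≤ V), x ∈ U.1 ∧
      ∃ g a, (∀ i, (D i).ideal U = Ideal.span {g i}) ∧ Rel d D U.1 g a (rs Ω' (pre_mono h) z)) :
    Mem d D V z := by
  intro x hx O hxO
  obtain ⟨U, h, hxU, g, a, hg, hz⟩ := H x hx
  obtain ⟨U', ⟨g', hg'⟩, hxU', hU'⟩ := exists_small hd hD x (O ⊓ U.1) ⟨hxO, hxU⟩
  refine ⟨U', (hU'.trans inf_le_right).trans h, hxU', hU'.trans inf_le_left, g',
    fun i => ro (hU'.trans inf_le_right) (a i), hg', ?_⟩
  have := hz.pass (hU'.trans inf_le_right) hg hg'.ideal_eq hg'.regular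
  rwa [rs_rs] at this

theorem Mem.res (hd : OmegaSh.IsUniversal d) (hD : LogNCD.IsNCD D f) {V V' : X.Opens} (h : V' ≤ V)
    {z : Γ(Ω', pre D V)} (hz : Mem d D V z) : Mem d D V' (rs Ω' (pre_mono h) z) := by
  refine mem_of_rel hd hD fun x hx => ?_
  obtain ⟨U, hU, hxU, hUV', g, a, hg, hrel⟩ := hz x (h hx) V' hx
  refine ⟨U, hUV', hxU, g, a, hg.ideal_eq, ?_⟩
  rw [rs_rs]; exact hrel

theorem Mem.add (hd : OmegaSh.IsUniversal d) (hD : LogNCD.IsNCD D f) {V : X.Opens} {z z' : Γ(Ω', pre D V)}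
    (hz : Mem d D V z) (hz' : Mem d D V z') : Mem d D V (z + z') := by
  refine mem_of_rel hd hD fun x hx => ?_
  obtain ⟨U, h, hxU, -, g, a, hg, hrel⟩ := hz x hx ⊤ trivial
  obtain ⟨U', h', hxU', hU', g', a', hg', hrel'⟩ := hz' x hx U.1 hxU
  refine ⟨U', h', hxU', g', (fun i => ro hU' (a i)) + a', hg'.ideal_eq, ?_⟩
  have := hrel.pass hU' hg.ideal_eq hg'.ideal_eq hg'.regular
  rw [rs_rs] at this
  rw [show rs Ω' (pre_mono h') (z + z') = rs Ω' (pre_mono h') z + rs Ω' (pre_mono h') z' from map_add _ _ _]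
  exact this.add hrel'

theorem Mem.smul (hd : OmegaSh.IsUniversal d) (hD : LogNCD.IsNCD D f) {V : X.Opens} {z : Γ(Ω', pre D V)}
    (hz : Mem d D V z) (c : Γ(X, V)) : Mem d D V (ro (pre_le (D := D) (V := V)) c • z) := by
  refine mem_of_rel hd hD fun x hx => ?_
  obtain ⟨U, h, hxU, -, g, a, hg, hrel⟩ := hz x hx ⊤ trivial
  refine ⟨U, h, hxU, g, ro h c • a, hg.ideal_eq, ?_⟩
  have := hrel.smul (ro h c)
  rw [rs_smul, ro_ro]
  rwa [ro_ro] at this

theorem mem_ι (hd : OmegaSh.IsUniversal d) (hD : LogNCD.IsNCD D f) {V : X.Opens} (ω : Γ(Ω', V)) :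
    Mem d D V (rs Ω' pre_le ω) := by
  refine mem_of_rel hd hD fun x hx => ?_
  obtain ⟨U, ⟨g, hg⟩, hxU, hUV⟩ := exists_small hd hD x V hx
  refine ⟨U, hUV, hxU, g, 0, hg.ideal_eq, ?_⟩
  rw [rs_rs, ← rs_rs Ω' hUV (pre_le (D := D) (V := U.1))]
  exact rel_ι _ _ _

variable (Ω' D) in
/-- The forms on the complement of the divisor, as a module on `X`. -/
def J : X.Modules :=
  (Scheme.Modules.pushforward (comp D).ι).obj ((Scheme.Modules.restrictFunctor (comp D).ι).obj Ω')

theorem j_smul {V : X.Opens} (c : Γ(X, V)) (z : Γ(J Ω' D, V)) :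
    (show Γ(Ω', pre D V) from c • z) = ro (pre_le (D := D) (V := V)) c • (show Γ(Ω', pre D V) from z) := by
  have key : (comp D).ι.app V c = ro (pre_le (D := D) (V := V)) c := by
    rw [Scheme.Opens.ι_app]; rfl
  exact (Groth.L18.Frame.restrict_smul' Ω' (comp D) ((comp D).ι ⁻¹ᵁ V) ((comp D).ι.app V c) z).trans
    (congrArg (fun t : Γ(X, pre D V) => t • (show Γ(Ω', pre D V) from z)) key)

variable (hd : OmegaSh.IsUniversal d) (hD : LogNCD.IsNCD D f)

/-- The sub-presheaf of forms with logarithmic poles. -/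
def logPre : (J Ω' D).val.Submodule where
  obj V :=
    { carrier := {z | Mem d D V.unop z}
      zero_mem' := by
        have h := mem_ι hd hD (V := V.unop) 0
        rwa [show rs Ω' (pre_le (D := D) (V := V.unop)) 0 = 0 from map_zero _] at h
      add_mem' := fun h h' => h.add hd hD h'
      smul_mem' := fun c z h => by
        show Mem d D V.unop (show Γ(Ω', pre D V.unop) from c • z)
        exact (j_smul c z).symm ▸ h.smul hd hD c }
  map {V V'} i z hz := Mem.res hd hD i.unop.le hz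

theorem isSheaf_logPre :
    Presheaf.IsSheaf (Opens.grothendieckTopology X) (logPre hd hD).toPresheafOfModules.presheaf := by
  rw [Presheaf.isSheaf_iff_isSheaf_forget _ _ (CategoryTheory.forget AddCommGrpCat.{u}),
    isSheaf_iff_isSheaf_of_type]
  intro E R hR x hx
  let y : Presieve.FamilyOfElements ((J Ω' D).val.presheaf ⋙ CategoryTheory.forget _) R.arrows :=
    fun V f hf => Subtype.val (x f hf)
  have hy : y.Compatible := fun V₁ V₂ W g₁ g₂ f₁ f₂ h₁ h₂ e => congrArg Subtype.val (hx g₁ g₂ h₁ h₂ e)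
  obtain ⟨s, hs, huniq⟩ := (isSheaf_iff_isSheaf_of_type _ _).1
    ((Presheaf.isSheaf_iff_isSheaf_forget _ _ (CategoryTheory.forget AddCommGrpCat.{u})).1 (J Ω' D).isSheaf)
      R hR y hy
  have hmem : Mem d D E s := by
    refine mem_of_rel hd hD fun z hz => ?_
    obtain ⟨W, i, hi, hzW⟩ := hR z hz
    obtain ⟨U, hU, hzU, -, g, a, hg, hrel⟩ :=
      (show Mem d D W (x i hi).1 from (x i hi).2) z hzW ⊤ trivial
    refine ⟨U, hU.trans i.le, hzU, g, a, hg.ideal_eq, ?_⟩
    have hsi : rs Ω' (pre_mono i.le) s = (x i hi).1 := hs i hi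
    rw [← rs_rs Ω' (pre_mono i.le) (pre_mono hU), hsi]
    exact hrel
  exact ⟨⟨s, hmem⟩, fun V f hf => Subtype.ext (hs f hf),
    fun t ht => Subtype.ext (huniq t.1 fun V f hf => congrArg Subtype.val (ht f hf))⟩

/-- `Ω'(log D)`. -/
def logMod : X.Modules := ⟨(logPre hd hD).toPresheafOfModules, isSheaf_logPre hd hD⟩

/-- Sections of `Ω'(log D)` as forms on the complement. -/
def val {V : X.Opens} (z : Γ(logMod hd hD, V)) : Γ(Ω', pre D V) := z.1

theorem val_mem {V : X.Opens} (z : Γ(logMod hd hD, V)) : Mem d D V (val hd hD z) := z.2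

theorem val_injective {V : X.Opens} : Function.Injective (val hd hD (V := V)) := Subtype.val_injective

/-- A form with logarithmic poles as a section. -/
def mk {V : X.Opens} (z : Γ(Ω', pre D V)) (h : Mem d D V z) : Γ(logMod hd hD, V) := ⟨z, h⟩

theorem val_mk {V : X.Opens} (z : Γ(Ω', pre D V)) (h : Mem d D V z) : val hd hD (mk hd hD z h) = z := rfl

theorem val_rs {V V' : X.Opens} (h : V' ≤ V) (z : Γ(logMod hd hD, V)) :
    val hd hD (rs (logMod hd hD) h z) = rs Ω' (pre_mono h) (val hd hD z) := rfl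

theorem val_add {V : X.Opens} (z z' : Γ(logMod hd hD, V)) :
    val hd hD (z + z') = val hd hD z + val hd hD z' := rfl

theorem val_smul {V : X.Opens} (c : Γ(X, V)) (z : Γ(logMod hd hD, V)) :
    val hd hD (c • z) = ro (pre_le (D := D) (V := V)) c • val hd hD z := j_smul (D := D) c z.1

/-- The inclusion of the forms without poles. -/
def incl : Ω' ⟶ logMod hd hD :=
  ⟨PresheafOfModules.homMk
    { app := fun V => AddCommGrpCat.ofHom
        { toFun := fun ω => mk hd hD (rs Ω' pre_le (show Γ(Ω', V.unop) from ω)) (mem_ι hd hD _)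
          map_zero' := val_injective hd hD (map_zero _)
          map_add' := fun a b => val_injective hd hD (map_add _ _ _) }
      naturality := fun V W i => by
        ext ω
        refine val_injective hd hD ?_
        show rs Ω' pre_le (rs Ω' i.unop.le ω) = rs Ω' (pre_mono i.unop.le) (rs Ω' pre_le ω)
        rw [rs_rs, rs_rs] }
    (fun V c ω => val_injective hd hD (by
      show rs Ω' pre_le ((show Γ(X, V.unop) from c) • (show Γ(Ω', V.unop) from ω)) = _
      rw [rs_smul]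
      exact (j_smul (Ω' := Ω') (D := D) (V := V.unop) c
        (show Γ(J Ω' D, V.unop) from rs Ω' (pre_le (D := D) (V := V.unop)) (show Γ(Ω', V.unop) from ω))).symm))⟩

theorem val_incl {V : X.Opens} (ω : Γ(Ω', V)) :
    val hd hD ((incl hd hD).app V ω) = rs Ω' pre_le ω := rfl

end Groth.L09.LogNCD
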