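import Groth.Agent.L09.LogNCD.Struct

/-!
# The inclusion of the log differentials of a subfamily
-/

set_option autoImplicit false
set_option linter.style.haveILetI false
set_option linter.unusedSectionVars false
set_option backward.isDefEq.respectTransparency false
set_option backward.isDefEq.respectTransparency.types false

universe u

open CategoryTheory CategoryTheory.Limits AlgebraicGeometry TopologicalSpace Opposite

noncomputable section

namespace Groth.L09.LogNCD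

open Groth.L18.Frame (rs ro rs_rs ro_ro rs_smul ro_self rs_self ro_mul)

variable {X S : Scheme.{u}} {f : X ⟶ S} {Ω' : X.Modules} {d : OmegaSh.Der f Ω'} {r : ℕ}
  {D : Fin (r + 1) → X.IdealSheafData} {i : Fin (r + 1)} {Λ : _root_.LogNCD.LogMod d D}
  {Λ' : _root_.LogNCD.LogMod d (D ∘ i.succAbove)}

theorem mul_succAbove {R : Type*} [CommRing R] (g : Fin (r + 1) → R) (i : Fin (r + 1)) :
    ∏ j, g j = g i * ∏ j, g (i.succAbove j) := Fin.prod_univ_succAbove g i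

theorem sub_ideal {U : X.affineOpens} {g : Fin (r + 1) → Γ(X, U.1)} (hg : Eqs d D U g) (j : Fin r) :
    ((D ∘ i.succAbove) j).ideal U = Ideal.span {g (i.succAbove j)} := hg.ideal_eq _

/-- A form whose multiple by the smaller product of equations is `ω`. -/
theorem exists_form (Λ' : _root_.LogNCD.LogMod d (D ∘ i.succAbove)) {U : X.affineOpens}
    {g : Fin (r + 1) → Γ(X, U.1)} (hg : Eqs d D U g) (z : Γ(Λ'.L, U.1)) :
    ∃ ω, Λ'.ι.app U.1 ω = (∏ j, g (i.succAbove j)) • z := by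
  obtain ⟨dl, hdl⟩ := exists_dl Λ' (g := fun j => g (i.succAbove j)) (sub_ideal hg)
  obtain ⟨ω, a, rfl⟩ := hdl.exists_comb z
  exact ⟨_, (hdl.prod_smul ω a).symm⟩

/-- Determined by the multiple. -/
theorem eq_of_smul (Λ : _root_.LogNCD.LogMod d D) {U : X.affineOpens} {g : Fin (r + 1) → Γ(X, U.1)}
    (hg : Eqs d D U g) {w w' : Γ(Λ.L, U.1)}
    (h : (∏ j, g (i.succAbove j)) • w = (∏ j, g (i.succAbove j)) • w') : w = w' := by
  refine sub_eq_zero.1 (torsion_free Λ hg.ideal_eq ?_)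
  rw [mul_succAbove g i, mul_smul, smul_sub, h, sub_self, smul_zero]

/-- The value on a section in terms of local combinations. -/
theorem exists_value (Λ : _root_.LogNCD.LogMod d D) (Λ' : _root_.LogNCD.LogMod d (D ∘ i.succAbove))
    {U : X.affineOpens} {g : Fin (r + 1) → Γ(X, U.1)} (hg : Eqs d D U g) (z : Γ(Λ'.L, U.1)) :
    ∃ w : Γ(Λ.L, U.1), ∀ ω, Λ'.ι.app U.1 ω = (∏ j, g (i.succAbove j)) • z →
      Λ.ι.app U.1 ω = (∏ j, g (i.succAbove j)) • w := by
  obtain ⟨dl', hdl'⟩ := exists_dl Λ' (g := fun j => g (i.succAbove j)) (sub_ideal hg)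
  obtain ⟨dl, hdl⟩ := exists_dl Λ hg.ideal_eq
  obtain ⟨ω₀, a, rfl⟩ := hdl'.exists_comb z
  refine ⟨Λ.ι.app U.1 ω₀ + ∑ j, a j • dl (i.succAbove j), fun ω hω => ?_⟩
  haveI := Λ'.mono
  rw [hdl'.prod_smul] at hω
  rw [injective_app Λ'.ι U.1 hω, map_add, map_sum, Scheme.Modules.Hom.app_smul, smul_add, Finset.smul_sum]
  refine congrArg₂ (· + ·) rfl (Finset.sum_congr rfl fun j _ => ?_)
  rw [Scheme.Modules.Hom.app_smul, ← hdl.smul_eq, smul_smul, smul_smul,
    ← Finset.mul_prod_erase _ (fun l => g (i.succAbove l)) (Finset.mem_univ j)]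
  congr 1
  ring

variable (Λ Λ') in
/-- The property defining the inclusion. -/
def IsVal (V : X.Opens) (z : Γ(Λ'.L, V)) (w : Γ(Λ.L, V)) : Prop :=
  ∀ (U : X.affineOpens) (h : U.1 ≤ V) (g : Fin (r + 1) → Γ(X, U.1)), Eqs d D U g → ∀ ω,
    Λ'.ι.app U.1 ω = (∏ j, g (i.succAbove j)) • rs Λ'.L h z →
      Λ.ι.app U.1 ω = (∏ j, g (i.succAbove j)) • rs Λ.L h w

theorem value_pass {U U' : X.affineOpens} (h : U'.1 ≤ U.1) {g : Fin (r + 1) → Γ(X, U.1)} (hg : Eqs d D U g)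
    {g' : Fin (r + 1) → Γ(X, U'.1)} (hg' : Eqs d D U' g') {z : Γ(Λ'.L, U.1)} {w : Γ(Λ.L, U.1)}
    {ω : Γ(Ω', U.1)} (hω : Λ'.ι.app U.1 ω = (∏ j, g (i.succAbove j)) • z)
    (hw : Λ.ι.app U.1 ω = (∏ j, g (i.succAbove j)) • w) (ω' : Γ(Ω', U'.1))
    (hω' : Λ'.ι.app U'.1 ω' = (∏ j, g' (i.succAbove j)) • rs Λ'.L h z) :
    Λ.ι.app U'.1 ω' = (∏ j, g' (i.succAbove j)) • rs Λ.L h w := by
  obtain ⟨v, hv⟩ := exists_units (ideal_res h hg.ideal_eq) hg'.ideal_eq hg'.regular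
  let P : Γ(X, U'.1)ˣ := ∏ j, v (i.succAbove j)
  have hP : ro h (∏ j, g (i.succAbove j)) = (P : Γ(X, U'.1)) * ∏ j, g' (i.succAbove j) := by
    rw [Units.coe_prod, ← Finset.prod_mul_distrib]
    exact (map_prod (X.presheaf.map (homOfLE h).op).hom _ _).trans (Finset.prod_congr rfl fun j _ => hv _)
  haveI := Λ'.mono
  have h1 : rs Ω' h ω = (P : Γ(X, U'.1)) • ω' := by
    refine injective_app Λ'.ι U'.1 ?_
    rw [app_rs, hω, rs_smul, hP, mul_smul, ← hω', Scheme.Modules.Hom.app_smul]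
  refine P.isUnit.smul_left_cancel.1 ?_
  rw [← Scheme.Modules.Hom.app_smul, ← h1, app_rs, hw, rs_smul, hP, mul_smul]

variable (hd : OmegaSh.IsUniversal d) (hD : _root_.LogNCD.IsNCD D f)

include hd hD in
theorem existsUnique_val (V : X.Opens) (z : Γ(Λ'.L, V)) : ∃! w, IsVal Λ Λ' V z w := by
  classical
  let P : X.affineOpens → Prop := fun U => ∃ g, Eqs d D U g
  have hv : ∀ (U : X.affineOpens) (p : P U) (h : U.1 ≤ V), ∃ w : Γ(Λ.L, U.1), ∀ ω,
      Λ'.ι.app U.1 ω = (∏ j, p.choose (i.succAbove j)) • rs Λ'.L h z →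
        Λ.ι.app U.1 ω = (∏ j, p.choose (i.succAbove j)) • w :=
    fun U p h => exists_value Λ Λ' p.choose_spec _
  choose w hw using hv
  have hcomp : ∀ (U U' : X.affineOpens) (p : P U) (p' : P U') (hZ : U.1 ≤ V) (hZ' : U'.1 ≤ V) (h : U'.1 ≤ U.1),
      rs Λ.L h (w U p hZ) = w U' p' hZ' := by
    intro U U' p p' hZ hZ' h
    obtain ⟨ω, hω⟩ := exists_form Λ' p.choose_spec (rs Λ'.L hZ z)
    obtain ⟨ω', hω'⟩ := exists_form Λ' p'.choose_spec (rs Λ'.L hZ' z)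
    refine eq_of_smul Λ (i := i) p'.choose_spec ?_
    rw [← hw U' p' hZ' ω' hω']
    exact (value_pass h p.choose_spec p'.choose_spec hω (hw U p hZ ω hω) ω' (by rw [rs_rs]; exact hω')).symm
  obtain ⟨s, hs, hu⟩ := Groth.L19.OmegaSh.existsUnique_glue Λ.L P (fun x O hx => exists_small hd hD x O hx) V w hcomp
  refine ⟨s, fun U h g hg ω hω => ?_, fun t ht => hu t fun U p h => ?_⟩
  · rw [hs U ⟨g, hg⟩ h]
    obtain ⟨ω₀, hω₀⟩ := exists_form Λ' (⟨g, hg⟩ : P U).choose_spec (rs Λ'.L h z)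
    refine (value_pass (le_refl U.1) (⟨g, hg⟩ : P U).choose_spec hg hω₀ (hw U ⟨g, hg⟩ h ω₀ hω₀) ω ?_).trans ?_
    · rw [rs_self]; exact hω
    · rw [rs_self]
  · obtain ⟨ω, hω⟩ := exists_form Λ' p.choose_spec (rs Λ'.L h z)
    refine eq_of_smul Λ (i := i) p.choose_spec ?_
    rw [← hw U p h ω hω]
    exact (ht U h _ p.choose_spec ω hω).symm

variable (Λ Λ') in
/-- The value of the inclusion. -/
def kval (V : X.Opens) (z : Γ(Λ'.L, V)) : Γ(Λ.L, V) :=
  (existsUnique_val (Λ := Λ) hd hD V z).choose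

theorem kval_spec (V : X.Opens) (z : Γ(Λ'.L, V)) : IsVal Λ Λ' V z (kval Λ Λ' hd hD V z) :=
  (existsUnique_val (Λ := Λ) hd hD V z).choose_spec.1

theorem kval_eq (V : X.Opens) (z : Γ(Λ'.L, V)) (w : Γ(Λ.L, V)) (h : IsVal Λ Λ' V z w) :
    kval Λ Λ' hd hD V z = w :=
  ((existsUnique_val (Λ := Λ) hd hD V z).choose_spec.2 w h).symm

theorem kval_add (V : X.Opens) (z z' : Γ(Λ'.L, V)) :
    kval Λ Λ' hd hD V (z + z') = kval Λ Λ' hd hD V z + kval Λ Λ' hd hD V z' := by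
  refine kval_eq hd hD V _ _ fun U h g hg ω hω => ?_
  obtain ⟨ω₁, hω₁⟩ := exists_form Λ' hg (rs Λ'.L h z)
  obtain ⟨ω₂, hω₂⟩ := exists_form Λ' hg (rs Λ'.L h z')
  haveI := Λ'.mono
  have h12 : ω = ω₁ + ω₂ := by
    refine injective_app Λ'.ι U.1 ?_
    rw [map_add, hω₁, hω₂, hω, ← smul_add]
    exact congrArg _ (map_add _ _ _)
  rw [h12, map_add, kval_spec hd hD V z U h g hg ω₁ hω₁, kval_spec hd hD V z' U h g hg ω₂ hω₂, ← smul_add]
  exact congrArg _ (map_add _ _ _).symm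

theorem kval_smul (V : X.Opens) (c : Γ(X, V)) (z : Γ(Λ'.L, V)) :
    kval Λ Λ' hd hD V (c • z) = c • kval Λ Λ' hd hD V z := by
  refine kval_eq hd hD V _ _ fun U h g hg ω hω => ?_
  obtain ⟨ω₁, hω₁⟩ := exists_form Λ' hg (rs Λ'.L h z)
  haveI := Λ'.mono
  have h1 : ω = ro h c • ω₁ := by
    refine injective_app Λ'.ι U.1 ?_
    rw [Scheme.Modules.Hom.app_smul, hω₁, hω, rs_smul, smul_comm]
  rw [h1, Scheme.Modules.Hom.app_smul, kval_spec hd hD V z U h g hg ω₁ hω₁, rs_smul, smul_comm]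

variable (Λ Λ') in
/-- The inclusion of the log differentials of the subfamily. -/
def kappa : Λ'.L ⟶ Λ.L :=
  ⟨PresheafOfModules.homMk
    { app := fun V => AddCommGrpCat.ofHom
        (AddMonoidHom.mk' (kval Λ Λ' hd hD V.unop) (kval_add hd hD V.unop))
      naturality := fun V W e => by
        ext z
        refine kval_eq hd hD W.unop _ _ fun U h g hg ω hω => ?_
        change Λ'.ι.app U.1 ω = (∏ j, g (i.succAbove j)) • rs Λ'.L h (rs Λ'.L e.unop.le z) at hω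
        rw [rs_rs] at hω
        show Λ.ι.app U.1 ω = (∏ j, g (i.succAbove j)) • rs Λ.L h (rs Λ.L e.unop.le (kval Λ Λ' hd hD V.unop z))
        rw [rs_rs]
        exact kval_spec hd hD V.unop z U _ g hg ω hω }
    (fun V c z => kval_smul hd hD V.unop c z)⟩

theorem isSubLog_kappa : _root_.LogNCD.IsSubLog Λ' Λ (kappa Λ Λ' hd hD) := by
  refine Scheme.Modules.hom_ext _ _ fun V => ?_
  ext ω
  refine kval_eq hd hD V _ _ fun U h g hg ω' hω' => ?_
  haveI := Λ'.mono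
  have h1 : ω' = (∏ j, g (i.succAbove j)) • rs Ω' h ω := by
    refine injective_app Λ'.ι U.1 (hω'.trans ?_)
    rw [Scheme.Modules.Hom.app_smul, app_rs]
    rfl
  rw [h1, Scheme.Modules.Hom.app_smul, app_rs]

end Groth.L09.LogNCD
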